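import Cfsg.Agent.H70.ChevField
import Cfsg.Agent.S0309

/-!
# An automorphism permuting the root subgroups of the fundamental roots and their negatives fixes `U` and `V`
-/

set_option autoImplicit false

namespace Cfsg.Agent.H70.PermFix

open scoped Pointwise
open Cfsg Cfsg.Lie Cfsg.Agent.ChevalleyStructure Cfsg.Agent.ChevalleyStructure.Elts
  Cfsg.Agent.ChevalleyStructure.NConj Cfsg.Agent.ChevalleyStructure.BNChev Cfsg.Agent.S1042
  Cfsg.Agent.Schreier.ChevLocal Cfsg.Agent.H70.AutFix Cfsg.Agent.H70.ChevTab Cfsg.Agent.H70.ChevFix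
  Cfsg.Agent.H70.ChevField Cfsg.Agent.ChevalleyStructure.RootCombGood

universe u

variable {D : ChevalleyDatum} (hD : InList D) {F : Type u} [Field F]

/-! ### Linearity of the action on the roots -/

/-- the permutation `π` of the roots is linear on coroot coefficients -/
def Lin (hD : InList D) (π : Equiv.Perm (Fin D.nroots)) : Prop :=
  ∀ s : Fin D.nroots, ∀ j < D.rank, co D (π s) j =
    ∑ k : Fin D.rank, co D s k * co D (π ⟨D.simple k, simple_lt hD k.2⟩) j

theorem lin_one : Lin hD (1 : Equiv.Perm (Fin D.nroots)) := by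
  intro s j hj
  have hG := RootComb.good_of_mem hD
  rw [Finset.sum_eq_single (⟨j, hj⟩ : Fin D.rank)]
  · show co D s j = co D s j * co D (D.simple j) j
    rw [hG.co_simple hj hj, if_pos rfl, mul_one]
  · intro k _ hk
    show co D s k * co D (D.simple k) j = 0
    rw [hG.co_simple k.2 hj, if_neg, mul_zero]
    intro h
    exact hk (Fin.ext h)
  · intro h
    exact absurd (Finset.mem_univ _) h

theorem lin_mul {π ρ : Equiv.Perm (Fin D.nroots)} (h1 : Lin hD π) (h2 : Lin hD ρ) : Lin hD (π * ρ) := by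
  intro s j hj
  show co D (π (ρ s)) j = ∑ k : Fin D.rank, co D s k * co D (π (ρ ⟨D.simple k, simple_lt hD k.2⟩)) j
  rw [h1 (ρ s) j hj]
  have e1 : ∀ k : Fin D.rank, co D (ρ s) k = ∑ m : Fin D.rank, co D s m * co D (ρ ⟨D.simple m, simple_lt hD m.2⟩) k :=
    fun k => h2 s k k.2
  have e2 : ∀ m : Fin D.rank, co D (π (ρ ⟨D.simple m, simple_lt hD m.2⟩)) j =
      ∑ k : Fin D.rank, co D (ρ ⟨D.simple m, simple_lt hD m.2⟩) k * co D (π ⟨D.simple k, simple_lt hD k.2⟩) j :=
    fun m => h1 _ j hj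
  simp only [e1, e2, Finset.sum_mul, Finset.mul_sum, mul_assoc]
  exact Finset.sum_comm

theorem lin_reflect {π : Equiv.Perm (Fin D.nroots)} {i : ℕ} (hi : i < D.rank)
    (h : ∀ s : Fin D.nroots, ((π s : Fin D.nroots) : ℕ) = D.reflectRoot i s) : Lin hD π := by
  intro s j hj
  have hG := RootComb.good_of_mem hD
  have e1 : ∀ s : Fin D.nroots, co D (π s) j = co D s j - if j = i then car D s (D.simple i) else 0 := by
    intro s
    rw [h s]
    exact hG.co_reflect hi s.2 hj
  have hcar : ∀ k : Fin D.rank, car D (D.simple k) (D.simple i) = D.cartan k (D.simple i) := by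
    intro k
    unfold car
    rw [Finset.sum_eq_single (k : ℕ)]
    · rw [hG.co_simple k.2 k.2, if_pos rfl, one_mul]
    · intro m hm hmk
      rw [hG.co_simple k.2 (Finset.mem_range.1 hm), if_neg (fun e => hmk e.symm), zero_mul]
    · intro hk
      exact absurd (Finset.mem_range.2 k.2) hk
  have e2 : ∀ k : Fin D.rank, co D (π ⟨D.simple k, simple_lt hD k.2⟩) j =
      (if (k : ℕ) = j then 1 else 0) - if j = i then D.cartan k (D.simple i) else 0 := by
    intro k
    rw [e1]
    show co D (D.simple k) j - (if j = i then car D (D.simple k) (D.simple i) else 0) = _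
    rw [hG.co_simple k.2 hj, hcar]
  rw [e1]
  simp only [e2, mul_sub, Finset.sum_sub_distrib]
  congr 1
  · rw [Finset.sum_eq_single (⟨j, hj⟩ : Fin D.rank)]
    · rw [if_pos rfl, mul_one]
    · intro k _ hk
      rw [if_neg (fun e => hk (Fin.ext e)), mul_zero]
    · intro h
      exact absurd (Finset.mem_univ _) h
  · by_cases hji : j = i
    · simp only [if_pos hji]
      unfold car
      exact Finset.sum_range (fun k => co D s k * D.cartan k (D.simple i))
    · simp only [if_neg hji, mul_zero, Finset.sum_const_zero]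

theorem lin_permHom (n : ↥(D.monomialSubgroup F)) : Lin hD (NPerm.permHom hD F n) := by
  have h1 : NPerm.permHom hD F n ∈ (NPerm.permHom hD F).range := ⟨n, rfl⟩
  generalize NPerm.permHom hD F n = ρ at h1 ⊢
  rw [NPerm.range_permHom hD F] at h1
  have h2 : Lin hD ρ ∧ Lin hD ρ⁻¹ := by
    induction h1 using Subgroup.closure_induction with
    | mem x hx =>
      obtain ⟨i, rfl⟩ := hx
      have h3 : ∀ s : Fin D.nroots, (((NPerm.permHom hD F ⟨nG hD (D.simple i) 1, NPerm.nG_simple_mem hD F i.2⟩) s :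
          Fin D.nroots) : ℕ) = D.reflectRoot i s := fun s =>
        NPerm.permHom_nG hD i.2 _ (coe_nG hD _ _) s
      refine ⟨lin_reflect hD i.2 h3, lin_reflect hD i.2 ?_⟩
      intro s
      have h4 : (NPerm.permHom hD F ⟨nG hD (D.simple i) 1, NPerm.nG_simple_mem hD F i.2⟩)⁻¹ =
          NPerm.permHom hD F ⟨nG hD (D.simple i) 1, NPerm.nG_simple_mem hD F i.2⟩ := by
        rw [inv_eq_iff_mul_eq_one]
        apply Equiv.ext
        intro s
        apply Fin.ext
        rw [Equiv.Perm.mul_apply, h3, h3, Reach.reflect_reflect hD i.2 s.2]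
        rfl
      rw [h4]
      exact h3 s
    | one => exact ⟨lin_one hD, by rw [inv_one]; exact lin_one hD⟩
    | mul x y _ _ hx hy => exact ⟨lin_mul hD hx.1 hy.1, by rw [mul_inv_rev]; exact lin_mul hD hy.2 hx.2⟩
    | inv x _ hx => exact ⟨hx.2, by rw [inv_inv]; exact hx.1⟩
  exact h2.1

/-- If `n X_p n⁻¹ ≤ U` for all fundamental roots `p` then `n U n⁻¹ = U`. -/
theorem conj_smul_UU_of_simple [Finite F] {n : ↥(D.group F)} (hn : n ∈ NN D F)
    (h : ∀ i : Fin D.rank, n * xe hD (D.simple i) 1 * n⁻¹ ∈ UU D F) : MulAut.conj n • UU D F = UU D F := by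
  have hfin : Finite (GL D.Idx F) := inferInstance
  have hfinG : Finite ↥(D.group F) := inferInstance
  have hG := RootComb.good_of_mem hD
  set π := NPerm.permHom hD F ⟨(n : GL D.Idx F), hn⟩ with hπ
  have hconj : ∀ (r : Fin D.nroots) (t : F), (n : GL D.Idx F) * xG hD r t * (n : GL D.Idx F)⁻¹ ∈ D.rootSubgroup F (π r) := by
    intro r t
    rw [← NPerm.conj_permHom hD ⟨(n : GL D.Idx F), hn⟩ r]
    exact ⟨xG hD r t, xG_mem_rootSubgroup hD r t, rfl⟩
  have hcases : ∀ r : Fin D.nroots, D.IsPosRoot r ∨ D.IsNegRoot r := by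
    intro r
    rw [hG.isPosRoot_iff, hG.isNegRoot_iff]
    rcases Nat.lt_or_ge (r : ℕ) (D.nroots / 2) with h1 | h1
    · exact Or.inr h1
    · exact Or.inl ⟨h1, r.2⟩
  have h1 : ∀ i : Fin D.rank, D.IsPosRoot (π ⟨D.simple i, simple_lt hD i.2⟩) := by
    intro i
    rcases hcases (π ⟨D.simple i, simple_lt hD i.2⟩) with h2 | h2
    · exact h2
    · exfalso
      obtain ⟨v, hv⟩ := (mem_rootSubgroup_iff hD _ _).1 (hconj ⟨D.simple i, simple_lt hD i.2⟩ 1)
      have h3 : n * xe hD (D.simple i) 1 * n⁻¹ ∈ VN D F := by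
        show (n : GL D.Idx F) * xG hD (D.simple i) 1 * (n : GL D.Idx F)⁻¹ ∈ D.negUnipotent F
        have h4 : (n : GL D.Idx F) * xG hD (D.simple i) 1 * (n : GL D.Idx F)⁻¹ =
          xG hD (π ⟨D.simple i, simple_lt hD i.2⟩) v := hv
        rw [h4]
        exact xG_mem_negUnipotent hD h2 v
      have h4 : n * xe hD (D.simple i) 1 * n⁻¹ ∈ UU D F ⊓ VN D F := ⟨h i, h3⟩
      rw [UU_inf_VN hD, Subgroup.mem_bot, mul_inv_eq_one] at h4
      have h5 : xe hD (D.simple i) (1 : F) = 1 := mul_left_cancel (h4.trans (mul_one n).symm)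
      exact one_ne_zero (xe_eq_one hD (simple_lt hD i.2) h5)
  have h2 : ∀ r : Fin D.nroots, D.IsPosRoot r → D.IsPosRoot (π r) := by
    intro r hr
    rw [hG.isPosRoot_iff_co] at hr ⊢
    refine ⟨(π r).2, fun j hj => ?_⟩
    rw [lin_permHom hD ⟨(n : GL D.Idx F), hn⟩ r j hj]
    refine Finset.sum_nonneg fun k _ => mul_nonneg (hr.2 k k.2) ?_
    have h3 := h1 k
    rw [hG.isPosRoot_iff_co] at h3
    exact h3.2 j hj
  have hle : MulAut.conj n • UU D F ≤ UU D F := by
    have h3 : D.posUnipotent F ≤ (D.posUnipotent F).comap (MulAut.conj (n : GL D.Idx F)).toMonoidHom := by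
      rw [posUnipotent_le_iff hD]
      intro r hr t
      show (n : GL D.Idx F) * xG hD r t * (n : GL D.Idx F)⁻¹ ∈ D.posUnipotent F
      obtain ⟨v, hv⟩ := (mem_rootSubgroup_iff hD _ _).1 (hconj ⟨r, hr.1⟩ t)
      have h4 : (n : GL D.Idx F) * xG hD r t * (n : GL D.Idx F)⁻¹ = xG hD (π ⟨r, hr.1⟩) v := hv
      rw [h4]
      exact xG_mem_posUnipotent hD (h2 ⟨r, hr.1⟩ hr) v
    intro g hg
    rw [mem_conj_smul_subgroupOf] at hg
    have h4 : (n : GL D.Idx F) * ((n : GL D.Idx F)⁻¹ * (g : GL D.Idx F) * (n : GL D.Idx F)) * (n : GL D.Idx F)⁻¹ ∈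
        D.posUnipotent F := h3 hg
    have h5 : (n : GL D.Idx F) * ((n : GL D.Idx F)⁻¹ * (g : GL D.Idx F) * (n : GL D.Idx F)) * (n : GL D.Idx F)⁻¹ =
        (g : GL D.Idx F) := by group
    rwa [h5] at h4
  refine Subgroup.eq_of_le_of_card_ge hle ?_
  exact le_of_eq (Nat.card_congr (Subgroup.equivSMul (MulAut.conj n) (UU D F)).toEquiv)

/-- The key step: if `n⁻¹ y n ∈ U` for an element `y = v x_p(c)`, `v ∈ U_p`, `c ≠ 0`, then `n⁻¹ X_p n ≤ U`. -/
theorem key_step {n : ↥(D.group F)} (hn : n ∈ NN D F) (i : Fin D.rank) {v : ↥(D.group F)} (hv : v ∈ VV D F i)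
    {c : F} (hc : c ≠ 0) (h : n⁻¹ * (v * xe hD (D.simple i) c) * n ∈ UU D F) (t : F) :
    n⁻¹ * xe hD (D.simple i) t * n ∈ UU D F := by
  rcases root_cases hD (m := (n : GL D.Idx F)) hn (simple_lt hD i.2) with h1 | h1
  · exact h1 t
  · exfalso
    set ni := nn hD F i with hni
    set n' := ni⁻¹ * n with hn'
    have hniN : ni ∈ NN D F := nG_one_mem_monomial hD (simple_lt hD i.2)
    have hn'N : n' ∈ NN D F := mul_mem (inv_mem hniN) hn
    obtain ⟨η, hη, h2⟩ := conj_simple (F := F) hD i.2 1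
    -- `n'⁻¹ x_i(s) n' ∈ U`
    have h3 : ∀ s : F, n'⁻¹ * xe hD (D.simple i) s * n' ∈ UU D F := by
      intro s
      obtain ⟨η, hη, h2⟩ := conj_simple (F := F) hD i.2 s
      have e : n'⁻¹ * xe hD (D.simple i) s * n' = n⁻¹ * (ni * xe hD (D.simple i) s * ni⁻¹) * n := by
        rw [hn']; group
      rw [e]
      have e2 : ni * xe hD (D.simple i) s * ni⁻¹ = xe hD (D.neg (D.simple i)) (η * s) := Subtype.ext h2
      rw [e2]
      exact h1 (η * s)
    -- `n_i⁻¹ x_i(c) n_i = x_{-i}(c')`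
    obtain ⟨c', hc'⟩ := conj_inv_simple (F := F) hD i.2 c
    have hc'0 : c' ≠ 0 := by
      rintro rfl
      rw [xG_zero] at hc'
      have h4 : xG hD (D.simple i) c = 1 := by
        have h5 : xG hD (D.simple i) c =
          nS hD F i * ((nS hD F i)⁻¹ * xG hD (D.simple i) c * nS hD F i) * (nS hD F i)⁻¹ := by group
        rw [h5, hc', mul_one, mul_inv_cancel]
      exact hc ((xG_eq_one_iff hD (simple_lt hD i.2) c).1 h4)
    have e1 : ni⁻¹ * xe hD (D.simple i) c * ni = xe hD (D.neg (D.simple i)) c' := Subtype.ext hc'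
    have hv' : ni⁻¹ * v * ni ∈ UU D F := by
      have h4 := nn_mem_normalizer hD F i
      have h5 := (Subgroup.mem_normalizer_iff.1 (inv_mem h4) v).1 hv
      rw [inv_inv] at h5
      exact VV_le F i h5
    -- `x_{-i}(c') = x_i(1/c') h n_i x_i(1/c')`
    have h4 := xG_neg_eq (F := F) hD (D.simple i) (-c'⁻¹)
    rw [inv_neg, inv_inv, neg_neg, neg_neg, nG_eq] at h4
    have e2 : xe hD (D.neg (D.simple i)) c' =
        xe hD (D.simple i) c'⁻¹ * he hD (D.simple i) (-c'⁻¹) * ni * xe hD (D.simple i) c'⁻¹ := by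
      apply Subtype.ext
      show xG hD (D.neg (D.simple i)) c' =
        xG hD (D.simple i) c'⁻¹ * hG hD (D.simple i) (-c'⁻¹) * nS hD F i * xG hD (D.simple i) c'⁻¹
      rw [h4, ← mul_assoc]
    have hheB : he hD (D.simple i) (-c'⁻¹) ∈ BB D F :=
      Subgroup.mem_sup_right (he_mem_HH hD (simple_lt hD i.2) (neg_ne_zero.2 (inv_ne_zero hc'0)))
    have hxB : xe hD (D.simple i) c'⁻¹ ∈ BB D F :=
      Subgroup.mem_sup_left (xG_mem_posUnipotent hD (simple_pos hD i.2) _)
    set u := n⁻¹ * (v * xe hD (D.simple i) c) * n with hu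
    -- `n' u = b₁ n_i n' u₂`
    have e3 : n' * u = ((ni⁻¹ * v * ni) * (xe hD (D.simple i) c'⁻¹ * he hD (D.simple i) (-c'⁻¹))) * (ni * n') *
        (n'⁻¹ * xe hD (D.simple i) c'⁻¹ * n') := by
      have e4 : n' * u = (ni⁻¹ * v * ni) * (ni⁻¹ * xe hD (D.simple i) c * ni) * n' := by
        rw [hu, hn']; group
      rw [e4, e1, e2]; group
    have hb1 : (ni⁻¹ * v * ni) * (xe hD (D.simple i) c'⁻¹ * he hD (D.simple i) (-c'⁻¹)) ∈ BB D F :=
      mul_mem (UU_le F hv') (mul_mem hxB hheB)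
    have hu2 : n'⁻¹ * xe hD (D.simple i) c'⁻¹ * n' ∈ BB D F := UU_le F (h3 _)
    have huB : u ∈ BB D F := UU_le F h
    have h5 : n'⁻¹ * (ni * n') ∈ (PP hD F).B := by
      rw [← S0309.result (PP hD F) (n := n') (n' := ni * n') hn'N (mul_mem hniN hn'N)]
      have h6 : n' * u ∈ DoubleCoset.doubleCoset n' ((PP hD F).B : Set ↥(D.group F)) (PP hD F).B := by
        rw [DoubleCoset.mem_doubleCoset]
        exact ⟨1, one_mem _, u, by rw [PP_B]; exact huB, by rw [one_mul]⟩
      have h7 : n' * u ∈ DoubleCoset.doubleCoset (ni * n') ((PP hD F).B : Set ↥(D.group F)) (PP hD F).B := by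
        rw [DoubleCoset.mem_doubleCoset]
        exact ⟨_, by rw [PP_B]; exact hb1, _, by rw [PP_B]; exact hu2, e3⟩
      exact (DoubleCoset.doubleCoset_eq_of_mem h6).symm.trans (DoubleCoset.doubleCoset_eq_of_mem h7)
    -- `n_i ∈ H`
    have h6 : n'⁻¹ * (ni * n') ∈ HH D F :=
      (rootData hD F).mem_inf _ h5 (mul_mem (inv_mem hn'N) (mul_mem hniN hn'N))
    have h7 := conj_mem_diagonal hD (m := (n' : GL D.Idx F)) hn'N h6
    have h8 : (n' : GL D.Idx F) * ((n'⁻¹ * (ni * n') : ↥(D.group F)) : GL D.Idx F) * (n' : GL D.Idx F)⁻¹ = (ni : GL D.Idx F) := by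
      have : n' * (n'⁻¹ * (ni * n')) * n'⁻¹ = ni := by group
      exact congrArg Subtype.val this
    have h9 : (n' : GL D.Idx F) * ((n'⁻¹ * (ni * n') : ↥(D.group F)) : GL D.Idx F) * (n' : GL D.Idx F)⁻¹ ∈
      D.diagonalSubgroup F := h7
    rw [h8] at h9
    apply Schreier.BNSch.not_mem_B (PP hD F) (s := nn hD F i) ⟨i, rfl⟩
    rw [PP_B]
    exact Subgroup.mem_sup_right h9

/-- A Sylow subgroup conjugate to `U` containing all `X_p`, `p` fundamental, is `U`. -/
theorem smul_UU_eq [Finite F] {g : ↥(D.group F)}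
    (h : ∀ i : Fin D.rank, xe hD (D.simple i) 1 ∈ MulAut.conj g • UU D F) : MulAut.conj g • UU D F = UU D F := by
  obtain ⟨b, hb, n, hn, b', hb', rfl⟩ := bruhat hD g
  have hbN : ∀ b ∈ BB D F, MulAut.conj b • UU D F = UU D F := by
    intro b hb
    rw [← mem_normalizer_iff_smul, normalizer_UU hD]
    exact hb
  have e1 : MulAut.conj (b * n * b') • UU D F = MulAut.conj b • (MulAut.conj n • UU D F) := by
    rw [conj_mul_smul, hbN b' hb', conj_mul_smul]
  rw [e1] at h ⊢
  have h1 : ∀ i : Fin D.rank, ∀ t : F, n⁻¹ * xe hD (D.simple i) t * n ∈ UU D F := by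
    intro i
    -- `y = b⁻¹ x_i(1) b = v x_i(c)`
    have h2 := h i
    rw [mem_smul_iff, ← map_inv, MulAut.conj_apply, inv_inv] at h2
    have hxB : xe hD (D.simple i) (1 : F) ∈ UU D F := xG_mem_posUnipotent hD (simple_pos hD i.2) _
    have hy : b⁻¹ * xe hD (D.simple i) 1 * b ∈ UU D F := by
      have := Schreier.ChevSch.conj_mem_UU F hD (inv_mem hb) hxB
      rwa [inv_inv] at this
    obtain ⟨v, hv, c, e⟩ := decomp hD i.2 (g := ((b⁻¹ * xe hD (D.simple i) 1 * b : ↥(D.group F)) : GL D.Idx F))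
      (Subgroup.mem_subgroupOf.1 hy)
    have hvG : v ∈ D.group F := comp_le hD i hv
    have e2 : b⁻¹ * xe hD (D.simple i) 1 * b = (⟨v, hvG⟩ : ↥(D.group F)) * xe hD (D.simple i) c := Subtype.ext e
    have hc : c ≠ 0 := by
      rintro rfl
      rw [xe_zero, mul_one] at e2
      have h3 : b⁻¹ * xe hD (D.simple i) 1 * b ∈ VV D F i := by rw [e2]; exact hv
      have h4 := (Subgroup.mem_normalizer_iff.1 (BB_le_normalizer F hD i.2 hb) _).1 h3
      have h5 : b * (b⁻¹ * xe hD (D.simple i) 1 * b) * b⁻¹ = xe hD (D.simple i) (1 : F) := by group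
      rw [h5] at h4
      exact one_ne_zero (eq_zero_of_xx_mem (F := F) hD i (t := 1) h4)
    rw [e2, mem_smul_iff, ← map_inv, MulAut.conj_apply, inv_inv] at h2
    exact key_step hD hn i hv hc h2
  have h2 : MulAut.conj n⁻¹ • UU D F = UU D F := by
    refine conj_smul_UU_of_simple hD (inv_mem hn) fun i => ?_
    rw [inv_inv]
    exact h1 i 1
  have h3 : MulAut.conj n • UU D F = UU D F := by
    rw [← h2, ← conj_mul_smul, mul_inv_cancel, map_one, one_smul, h2]
  rw [h3, hbN b hb]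

variable {φ : MulAut ↥(D.group F)} {π : Equiv.Perm (Fin D.rank)}

/-- `φ (n_p(t)) = n_{π p}(c σ(t))` -/
theorem map_ne {i : Fin D.rank} {c : F} {σ : F ≃+* F}
    (h1 : ∀ t : F, φ (xe hD (D.simple i) t) = xe hD (D.simple (π i)) (c * σ t))
    (h2 : ∀ t : F, φ (xe hD (D.neg (D.simple i)) t) = xe hD (D.neg (D.simple (π i))) (c⁻¹ * σ t)) (t : F) :
    φ (ne hD (D.simple i) t) = ne hD (D.simple (π i)) (c * σ t) := by
  rw [ne_def, ne_def, map_mul, map_mul, h1, h2, map_neg, map_inv₀, mul_inv, mul_neg]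

theorem _root_.Cfsg.Agent.H70.ChevField.Perm.smul_UU [Finite F] (hD : InList D) (hφ : Perm D F φ π) :
    φ • UU D F = UU D F := by
  have hfin : Finite (GL D.Idx F) := inferInstance
  have hfinG : Finite ↥(D.group F) := inferInstance
  obtain ⟨p, hc⟩ := CharP.exists F
  have hp : Fact p.Prime := ⟨(CharP.char_is_prime_or_zero F p).resolve_right (CharP.char_ne_zero_of_finite F p)⟩
  obtain ⟨S, hS⟩ := exists_sylow (F := F) hD (p := p)
  obtain ⟨g, hg⟩ := MulAction.exists_smul_eq ↥(D.group F) S (φ • S)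
  have h1 : MulAut.conj g • UU D F = φ • UU D F := by
    have h2 := congrArg (fun S : Sylow p ↥(D.group F) => (S : Subgroup ↥(D.group F))) hg
    simp only [Sylow.smul_def, Sylow.pointwise_smul_def, hS] at h2
    exact h2
  rw [← h1]
  apply smul_UU_eq hD
  intro i
  rw [h1]
  have h2 : xe hD (D.simple i) (1 : F) ∈ XX D F (D.simple (π (π⁻¹ i))) := by
    rw [show π (π⁻¹ i) = i by simp]
    exact xe_mem_XX hD _ _
  rw [← hφ.pos, mem_smul_iff] at h2
  rw [mem_smul_iff]
  obtain ⟨t, ht⟩ := (mem_XX hD).1 h2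
  rw [ht]
  exact xG_mem_posUnipotent hD (simple_pos hD (π⁻¹ i).2) _

/-- `φ` maps `N` to `N` -/
theorem _root_.Cfsg.Agent.H70.ChevField.Perm.apply_mem_NN (hD : InList D) (hφ : Perm D F φ π)
    {n : ↥(D.group F)} (hn : n ∈ NN D F) : φ n ∈ NN D F := by
  obtain ⟨c, σ, hc, h1, h2, -⟩ := exists_field hD hφ
  have hne : ∀ (i : Fin D.rank) (t : F), t ≠ 0 → φ (ne hD (D.simple i) t) ∈ NN D F := by
    intro i t ht
    rw [map_ne hD (h1 i) (h2 i)]
    refine nG_mem_monomial hD (simple_lt hD (π i).2) (mul_ne_zero (hc i) ?_)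
    exact (map_ne_zero_iff (σ i) (σ i).injective).2 ht
  have hle : D.monomialSubgroup F ≤ ((NN D F).comap φ.toMonoidHom).map (D.group F).subtype := by
    refine monomial_le_of hD ?_ ?_
    · intro h hh
      obtain ⟨d, hd, e⟩ := S1034.result (F := F) D hD h hh
      have e1 : h = wordG hD ((List.range D.rank).flatMap fun i => D.hWord (D.simple i) (d i)) := (eq_wordG_iff hD _ _).2 e
      have key : ∀ l : List ℕ, (∀ i ∈ l, i < D.rank) →
          wordG hD (l.flatMap fun i => D.hWord (D.simple i) (d i)) ∈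
            ((NN D F).comap φ.toMonoidHom).map (D.group F).subtype := by
        intro l
        induction l with
        | nil =>
          intro _
          rw [List.flatMap_nil, wordG_nil]
          exact one_mem _
        | cons i l ih =>
          intro hl
          rw [List.flatMap_cons, wordG_append]
          refine mul_mem ?_ (ih fun j hj => hl j (List.mem_cons_of_mem _ hj))
          have hi := hl i List.mem_cons_self
          refine ⟨he hD (D.simple i) (d i), ?_, rfl⟩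
          show φ (he hD (D.simple i) (d i)) ∈ NN D F
          rw [he_eq, map_mul, map_inv]
          exact mul_mem (hne ⟨i, hi⟩ _ (hd i hi)) (inv_mem (hne ⟨i, hi⟩ _ one_ne_zero))
      rw [e1]
      exact key _ fun i hi => List.mem_range.1 hi
    · intro i hi
      exact ⟨ne hD (D.simple i) 1, hne ⟨i, hi⟩ 1 one_ne_zero, rfl⟩
  obtain ⟨m, hm, e⟩ := hle hn
  have : m = n := Subtype.ext e
  rw [← this]
  exact hm

theorem _root_.Cfsg.Agent.H70.ChevField.Perm.smul_VN [Finite F] (hD : InList D) (hφ : Perm D F φ π) :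
    φ • VN D F = VN D F := by
  obtain ⟨n₀, hn, h1, -, -⟩ := exists_n0 hD F
  have hU := Perm.smul_UU hD hφ
  have h2 : φ • VN D F = MulAut.conj (φ n₀) • UU D F := by
    rw [← h1, smul_conj_smul, hU]
  rw [h2]
  refine uniq hD (Perm.apply_mem_NN hD hφ hn) (card_VN hD F) ?_
  rw [← h2]
  have h3 : φ • (UU D F ⊓ VN D F) = φ • (⊥ : Subgroup ↥(D.group F)) := by rw [UU_inf_VN hD]
  rw [smul_inf', smul_bot', hU] at h3
  exact h3

end Cfsg.Agent.H70.PermFix
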