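import Cfsg.Prelude.Def_KGroupFacts
import Cfsg.Agent.H70.PermFix
import Cfsg.Agent.H70.ChevDiag
import Cfsg.Agent.H79.SimpleGen
import Cfsg.Agent.S1080
import Cfsg.Agent.S1051

/-!
# The order of the outer automorphism group of a finite Chevalley group

`card_out_mul`: `|Out(G)| · |H| = |R| · (q - 1)^l · |Aut F|`, where `R` is the group of permutations of the nodes of the
Dynkin diagram realised by automorphisms of `G`.
-/

set_option autoImplicit false

namespace Cfsg.Agent.H70.OutCount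

open scoped Pointwise
open Cfsg Cfsg.Lie Cfsg.Agent.ChevalleyStructure Cfsg.Agent.ChevalleyStructure.Elts
  Cfsg.Agent.ChevalleyStructure.NConj Cfsg.Agent.ChevalleyStructure.BNChev Cfsg.Agent.S1042
  Cfsg.Agent.Schreier.ChevLocal Cfsg.Agent.H70.AutFix Cfsg.Agent.H70.ChevTab Cfsg.Agent.H70.ChevFix
  Cfsg.Agent.H70.ChevField Cfsg.Agent.H70.PermFix Cfsg.Agent.H70.ChevDiag

universe u

variable {D : ChevalleyDatum} (hD : InList D) (F : Type u) [Field F]

/-- The automorphisms permuting the root subgroups of the fundamental roots and their negatives. -/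
def A0 (D : ChevalleyDatum) (F : Type u) [Field F] : Subgroup (MulAut ↥(D.group F)) where
  carrier := {φ | ∃ π, Perm D F φ π}
  mul_mem' := fun ⟨π, h1⟩ ⟨ρ, h2⟩ => ⟨π * ρ, h1.mul h2⟩
  one_mem' := ⟨1, Perm.one⟩
  inv_mem' := fun ⟨π, h1⟩ => ⟨π⁻¹, h1.inv⟩

theorem mem_A0 {φ : MulAut ↥(D.group F)} : φ ∈ A0 D F ↔ ∃ π, Perm D F φ π := Iff.rfl

/-- The permutations of the nodes realised by automorphisms. -/
def realised (_hD : InList D) (F : Type u) [Field F] : Subgroup (Equiv.Perm (Fin D.rank)) where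
  carrier := {π | ∃ φ, Perm D F φ π}
  mul_mem' := fun ⟨φ, h1⟩ ⟨ψ, h2⟩ => ⟨φ * ψ, h1.mul h2⟩
  one_mem' := ⟨1, Perm.one⟩
  inv_mem' := fun ⟨φ, h1⟩ => ⟨φ⁻¹, h1.inv⟩

variable {F}

theorem mem_realised {π : Equiv.Perm (Fin D.rank)} : π ∈ realised hD F ↔ ∃ φ, Perm D F φ π := Iff.rfl

/-- The permutation of an element of `A0`. -/
noncomputable def rho (hD : InList D) (F : Type u) [Field F] : ↥(A0 D F) →* Equiv.Perm (Fin D.rank) where
  toFun φ := φ.2.choose
  map_one' := Perm.unique hD (Exists.choose_spec (1 : ↥(A0 D F)).2) Perm.one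
  map_mul' φ ψ := Perm.unique hD (Exists.choose_spec (φ * ψ).2)
    ((Exists.choose_spec φ.2).mul (Exists.choose_spec ψ.2))

theorem rho_spec (φ : ↥(A0 D F)) : Perm D F (φ : MulAut ↥(D.group F)) (rho hD F φ) := Exists.choose_spec φ.2

theorem rho_eq {φ : ↥(A0 D F)} {π : Equiv.Perm (Fin D.rank)} (h : Perm D F (φ : MulAut ↥(D.group F)) π) :
    rho hD F φ = π := Perm.unique hD (rho_spec hD φ) h

theorem range_rho : (rho hD F).range = realised hD F := by
  ext π
  constructor
  · rintro ⟨φ, rfl⟩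
    exact ⟨φ, rho_spec hD φ⟩
  · rintro ⟨φ, h⟩
    exact ⟨⟨φ, π, h⟩, rho_eq hD h⟩

theorem mem_ker_rho {φ : ↥(A0 D F)} : φ ∈ (rho hD F).ker ↔ Perm D F (φ : MulAut ↥(D.group F)) 1 := by
  rw [MonoidHom.mem_ker]
  constructor
  · intro h
    rw [← h]
    exact rho_spec hD φ
  · intro h
    exact rho_eq hD h

/-! ### Connectedness of the Dynkin diagram -/

/-- the distance from the centre of the diagram -/
def ConnBy (D : ChevalleyDatum) (root : ℕ) (h : ℕ → ℕ) : Prop :=
  ∀ i < D.rank, i = root ∨ ∃ j < D.rank, (D.cartan i (D.simple j) = -1 ∨ D.cartan j (D.simple i) = -1) ∧ h j < h i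

instance (D : ChevalleyDatum) (root : ℕ) (h : ℕ → ℕ) : Decidable (ConnBy D root h) :=
  inferInstanceAs (Decidable (∀ i < D.rank, i = root ∨ ∃ j < D.rank, (D.cartan i (D.simple j) = -1 ∨
    D.cartan j (D.simple i) = -1) ∧ h j < h i))

theorem exists_conn (hD : InList D) : ∃ (root : Fin D.rank) (h : ℕ → ℕ), ConnBy D root h := by
  simp only [InList, List.mem_cons, List.not_mem_nil, or_false] at hD
  rcases hD with rfl | rfl | rfl | rfl | rfl | rfl | rfl
  · exact ⟨⟨0, by decide⟩, fun i => [0, 1].getD i 0, by decide +kernel⟩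
  · exact ⟨⟨0, by decide⟩, fun i => [0, 1].getD i 0, by decide +kernel⟩
  · exact ⟨⟨1, by decide⟩, fun i => [1, 0, 1, 1].getD i 0, by decide +kernel⟩
  · exact ⟨⟨0, by decide⟩, fun i => [0, 1, 2, 3].getD i 0, by decide +kernel⟩
  · exact ⟨⟨3, by decide⟩, fun i => [2, 1, 1, 0, 1, 2].getD i 0, by decide +kernel⟩
  · exact ⟨⟨3, by decide⟩, fun i => [2, 1, 1, 0, 1, 2, 3].getD i 0, by decide +kernel⟩
  · exact ⟨⟨3, by decide⟩, fun i => [2, 1, 1, 0, 1, 2, 3, 4].getD i 0, by decide +kernel⟩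

/-- the field automorphisms at the nodes are all equal, for `π = 1` -/
theorem sigma_eq (hD : InList D) {σ : Fin D.rank → (F ≃+* F)}
    (h : ∀ (i j : Fin D.rank) (a : F), a ≠ 0 →
      σ j (a ^ D.cartan i (D.simple j)) = (σ i a) ^ D.cartan i (D.simple j)) :
    ∃ τ : F ≃+* F, ∀ i, σ i = τ := by
  obtain ⟨root, d, hd⟩ := exists_conn hD
  have hstep : ∀ i j : Fin D.rank, D.cartan i (D.simple j) = -1 → σ i = σ j := by
    intro i j hij
    apply RingEquiv.ext
    intro a
    by_cases ha : a = 0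
    · rw [ha, map_zero, map_zero]
    · have h1 := h i j a ha
      rw [hij, zpow_neg_one, zpow_neg_one, map_inv₀] at h1
      exact (inv_injective h1).symm
  refine ⟨σ root, ?_⟩
  have key : ∀ n : ℕ, ∀ i : Fin D.rank, d i < n → σ i = σ root := by
    intro n
    induction n with
    | zero => intro i hi; exact absurd hi (Nat.not_lt_zero _)
    | succ n ih =>
      intro i hi
      rcases hd i i.2 with h1 | ⟨j, hj, h1, h2⟩
      · rw [Fin.ext h1]
      · have h3 := ih ⟨j, hj⟩ (lt_of_lt_of_le h2 (Nat.lt_succ_iff.1 hi))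
        rw [← h3]
        rcases h1 with h1 | h1
        · exact hstep i ⟨j, hj⟩ h1
        · exact (hstep ⟨j, hj⟩ i h1).symm
  intro i
  exact key (d i + 1) i (Nat.lt_succ_self _)

/-! ### The automorphisms fixing all the root subgroups -/

/-- the values on the root elements determine an automorphism -/
theorem ext_values {φ ψ : MulAut ↥(D.group F)}
    (h1 : ∀ (i : Fin D.rank) (t : F), φ (xe hD (D.simple i) t) = ψ (xe hD (D.simple i) t))
    (h2 : ∀ (i : Fin D.rank) (t : F), φ (xe hD (D.neg (D.simple i)) t) = ψ (xe hD (D.neg (D.simple i)) t)) :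
    φ = ψ :=
  H79.SimpleGen.equiv_ext hD φ ψ (fun i hi t => h1 ⟨i, hi⟩ t) (fun i hi t => h2 ⟨i, hi⟩ t)

theorem diagAut_xe {χ : ℕ → Fˣ} (h : IsMul D χ) (r : ℕ) (t : F) :
    diagAut hD h (xe hD r t) = xe hD r ((χ r : F) * t) := Subtype.ext (dG_conj hD h r t)

theorem exists_fieldAut (hD : InList D) (τ : F ≃+* F) :
    ∃ α : MulAut ↥(D.group F), ∀ r < D.nroots, ∀ t : F, α (xe hD r t) = xe hD r (τ t) := by
  obtain ⟨α, hα⟩ := S1080.result D hD τ
  refine ⟨α, fun r hr t => ?_⟩
  apply Subtype.ext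
  exact (eq_xG_iff hD _ _ _).2 (hα (xe hD r t) r t hr rfl)

/-- All values are realised. -/
theorem exists_values (hD : InList D) (c : Fin D.rank → Fˣ) (τ : F ≃+* F) :
    ∃ φ : MulAut ↥(D.group F),
      (∀ (i : Fin D.rank) (t : F), φ (xe hD (D.simple i) t) = xe hD (D.simple i) ((c i : F) * τ t)) ∧
      ∀ (i : Fin D.rank) (t : F), φ (xe hD (D.neg (D.simple i)) t) = xe hD (D.neg (D.simple i)) ((c i : F)⁻¹ * τ t) := by
  obtain ⟨χ, hχ, h1, h2⟩ := exists_diagAut (F := F) hD c
  obtain ⟨α, hα⟩ := exists_fieldAut hD τ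
  refine ⟨diagAut hD hχ * α, fun i t => ?_, fun i t => ?_⟩
  · rw [MulAut.mul_apply, hα _ (simple_lt hD i.2), diagAut_xe, h1]
  · rw [MulAut.mul_apply, hα _ (neg_simple_lt hD i.2), diagAut_xe, h2, Units.val_inv_eq_inv_val]

/-- an automorphism with such values fixes the root subgroups -/
theorem perm_one_of_values {φ : MulAut ↥(D.group F)} {c : Fin D.rank → F} {σ : Fin D.rank → (F ≃+* F)}
    (hc : ∀ i, c i ≠ 0)
    (h1 : ∀ (i : Fin D.rank) (t : F), φ (xe hD (D.simple i) t) = xe hD (D.simple i) (c i * σ i t))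
    (h2 : ∀ (i : Fin D.rank) (t : F), φ (xe hD (D.neg (D.simple i)) t) = xe hD (D.neg (D.simple i)) ((c i)⁻¹ * σ i t)) :
    Perm D F φ 1 := by
  have key : ∀ (r : ℕ) (d : F) (τ : F ≃+* F), d ≠ 0 → (∀ t : F, φ (xe hD r t) = xe hD r (d * τ t)) →
      φ • XX D F r = XX D F r := by
    intro r d τ hd h
    apply le_antisymm
    · intro g hg
      rw [mem_smul_iff, mem_XX hD] at hg
      obtain ⟨t, ht⟩ := hg
      rw [mem_XX hD]
      refine ⟨d * τ t, ?_⟩
      rw [← h t, ← ht, MulAut.apply_inv_self]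
    · intro g hg
      rw [mem_XX hD] at hg
      obtain ⟨t, rfl⟩ := hg
      rw [mem_smul_iff, mem_XX hD]
      refine ⟨τ.symm (d⁻¹ * t), ?_⟩
      have h3 : xe hD r t = φ (xe hD r (τ.symm (d⁻¹ * t))) := by
        rw [h, RingEquiv.apply_symm_apply, ← mul_assoc, mul_inv_cancel₀ hd, one_mul]
      rw [h3, MulAut.inv_apply_self]
  exact ⟨fun i => key _ (c i) (σ i) (hc i) (h1 i), fun i => key _ (c i)⁻¹ (σ i) (inv_ne_zero (hc i)) (h2 i)⟩

/-- The order of the group of the automorphisms fixing all `X_{±p}`. -/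
theorem card_ker_rho [Finite F] :
    Nat.card (rho hD F).ker = (Nat.card F - 1) ^ D.rank * Nat.card (F ≃+* F) := by
  choose f hf1 hf2 using exists_values (F := F) hD
  have hperm : ∀ c τ, Perm D F (f c τ) 1 := fun c τ =>
    perm_one_of_values hD (c := fun i => (c i : F)) (σ := fun _ => τ) (fun i => (c i).ne_zero) (hf1 c τ) (hf2 c τ)
  let g : (Fin D.rank → Fˣ) × (F ≃+* F) → (rho hD F).ker := fun p =>
    ⟨⟨f p.1 p.2, 1, hperm p.1 p.2⟩, (mem_ker_rho hD).2 (hperm p.1 p.2)⟩
  have hrank : 0 < D.rank := (RootComb.good_of_mem hD).rank_pos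
  have hg : Function.Bijective g := by
    constructor
    · rintro ⟨c, τ⟩ ⟨c', τ'⟩ h
      have h1 : f c τ = f c' τ' := congrArg (fun x : (rho hD F).ker => ((x : ↥(A0 D F)) : MulAut ↥(D.group F))) h
      have h2 : ∀ (i : Fin D.rank) (t : F), (c i : F) * τ t = (c' i : F) * τ' t := by
        intro i t
        apply xe_inj hD (simple_lt hD i.2)
        rw [← hf1, ← hf1, h1]
      have h3 : c = c' := by
        funext i
        have := h2 i 1
        rw [map_one, map_one, mul_one, mul_one] at this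
        exact Units.ext this
      have h4 : τ = τ' := by
        apply RingEquiv.ext
        intro t
        have := h2 ⟨0, hrank⟩ t
        rw [h3] at this
        exact mul_left_cancel₀ (c' ⟨0, hrank⟩).ne_zero this
      rw [h3, h4]
    · rintro ⟨φ, hφ⟩
      have hφ1 := (mem_ker_rho hD).1 hφ
      obtain ⟨c, σ, hc, h1, h2, h3⟩ := exists_field hD hφ1
      obtain ⟨τ, hτ⟩ := sigma_eq hD (σ := σ) h3
      refine ⟨(fun i => Units.mk0 (c i) (hc i), τ), ?_⟩
      apply Subtype.ext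
      apply Subtype.ext
      show f _ _ = (φ : MulAut ↥(D.group F))
      apply ext_values hD
      · intro i t
        rw [hf1, h1, hτ]
        rfl
      · intro i t
        rw [hf2, h2, hτ]
        rfl
  rw [← Nat.card_congr (Equiv.ofBijective g hg), Nat.card_prod, Nat.card_fun, Nat.card_units, Nat.card_fin]

/-! ### The inner automorphisms -/

theorem center_eq_bot (hD : InList D) : Subgroup.center ↥(D.group F) = ⊥ := by
  have h1 : Subgroup.center ↥(D.group F) ≤ BB D F := by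
    rw [← normalizer_UU hD]
    intro z hz
    rw [Subgroup.mem_normalizer_iff]
    intro g
    have : z * g * z⁻¹ = g := by
      rw [Subgroup.mem_center_iff] at hz
      rw [← hz g, mul_inv_cancel_right]
    rw [this]
  have h2 : Subgroup.center ↥(D.group F) ≤ (BB D F).normalCore := Subgroup.normal_le_normalCore.2 h1
  have h3 : (BB D F).normalCore = ⊥ := S1051.result (F := F) D hD
  rwa [h3, le_bot_iff] at h2

theorem conj_injective (hD : InList D) : Function.Injective (MulAut.conj : ↥(D.group F) →* MulAut ↥(D.group F)) := by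
  rw [injective_iff_map_eq_one]
  intro g hg
  have h1 : g ∈ Subgroup.center ↥(D.group F) := by
    rw [Subgroup.mem_center_iff]
    intro x
    have h2 := DFunLike.congr_fun hg x
    rw [MulAut.conj_apply, MulAut.one_apply, mul_inv_eq_iff_eq_mul] at h2
    exact h2.symm
  rwa [center_eq_bot hD, Subgroup.mem_bot] at h1

theorem conj_mem_A0 (hD : InList D) {h : ↥(D.group F)} (hh : h ∈ HH D F) : MulAut.conj h ∈ A0 D F :=
  ⟨1, fun i => conj_XX hD hh (simple_lt hD i.2), fun i => conj_XX hD hh (neg_simple_lt hD i.2)⟩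

theorem card_inn_inf [Finite F] (hD : InList D) :
    Nat.card ((Inn ↥(D.group F)).subgroupOf (A0 D F)) = Nat.card (D.diagonalSubgroup F) := by
  have h0 : Nat.card (D.diagonalSubgroup F) = Nat.card (HH D F) :=
    (Nat.card_congr (Subgroup.subgroupOfEquivOfLe (diagonal_le_group hD F)).toEquiv).symm
  rw [h0]
  symm
  let g : HH D F → (Inn ↥(D.group F)).subgroupOf (A0 D F) := fun h =>
    ⟨⟨MulAut.conj (h : ↥(D.group F)), conj_mem_A0 hD h.2⟩, ⟨h, rfl⟩⟩
  refine Nat.card_congr (Equiv.ofBijective g ⟨?_, ?_⟩)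
  · intro a b hab
    have h1 : MulAut.conj (a : ↥(D.group F)) = MulAut.conj (b : ↥(D.group F)) :=
      congrArg (fun x : (Inn ↥(D.group F)).subgroupOf (A0 D F) => ((x : ↥(A0 D F)) : MulAut ↥(D.group F))) hab
    exact Subtype.ext (conj_injective hD h1)
  · rintro ⟨⟨φ, π, hφ⟩, ⟨x, hx⟩⟩
    have hx' : MulAut.conj x = φ := hx
    subst hx'
    have h1 : x ∈ HH D F := by
      rw [← normalizer_inf hD, Subgroup.mem_inf, mem_normalizer_iff_smul, mem_normalizer_iff_smul]
      exact ⟨Perm.smul_UU hD hφ, Perm.smul_VN hD hφ⟩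
    exact ⟨⟨x, h1⟩, rfl⟩

theorem inn_sup_A0 [Finite F] (hD : InList D) : A0 D F ⊔ Inn ↥(D.group F) = ⊤ := by
  rw [eq_top_iff]
  intro θ _
  obtain ⟨x, π, -, -, h1, h2⟩ := exists_conj_perm (F := F) hD θ
  have h3 : θ = (MulAut.conj x)⁻¹ * (MulAut.conj x * θ) := by group
  rw [h3]
  exact mul_mem (inv_mem (Subgroup.mem_sup_right ⟨x, rfl⟩)) (Subgroup.mem_sup_left ⟨π, h1, h2⟩)

/-- **The order of `Out(G)`.** -/
theorem card_out_mul (hD : InList D) (F : Type u) [Field F] [Finite F] :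
    Nat.card (Out ↥(D.group F)) * Nat.card (D.diagonalSubgroup F) =
      Nat.card ↥(realised hD F) * ((Nat.card F - 1) ^ D.rank * Nat.card (F ≃+* F)) := by
  have h1 : Nat.card (Out ↥(D.group F)) = ((Inn ↥(D.group F)).subgroupOf (A0 D F)).index := by
    have h2 : (Inn ↥(D.group F)).relIndex (A0 D F ⊔ Inn ↥(D.group F)) = (Inn ↥(D.group F)).relIndex (A0 D F) :=
      Subgroup.relIndex_sup_right _ _
    rw [inn_sup_A0 hD, Subgroup.relIndex_top_right] at h2
    exact h2
  rw [h1, ← card_inn_inf hD, mul_comm, Subgroup.card_mul_index, ← card_ker_rho hD, ← range_rho hD]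
  have h3 := Subgroup.card_mul_index (rho hD F).ker
  rw [Subgroup.index_ker] at h3
  rw [← h3, mul_comm]

end Cfsg.Agent.H70.OutCount
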