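import Cfsg.Agent.H70.ChevFix

/-!
# Automorphisms of the finite Chevalley groups: the field part

Steinberg's theorem, second part. Let `φ` be an automorphism of the Chevalley group `D.group F` (any field `F` such
that ...) mapping `X_{p_i}` onto `X_{p_{π i}}` and `X_{-p_i}` onto `X_{-p_{π i}}` for all nodes `i`.

* `cartan_eq_zero_iff`: `π` preserves the edges of the Dynkin diagram;
* `exists_field`: there are `c i ≠ 0` and automorphisms `σ i` of the field with
  `φ (x_{p_i}(t)) = x_{p_{π i}}(c_i σ_i(t))`, `φ (x_{-p_i}(t)) = x_{-p_{π i}}(c_i⁻¹ σ_i(t))` and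
  `σ_j(a ^ A_{ij}) = σ_i(a) ^ A_{π i, π j}`.
-/

set_option autoImplicit false

namespace Cfsg.Agent.H70.ChevField

open scoped Pointwise
open Cfsg Cfsg.Lie Cfsg.Agent.ChevalleyStructure Cfsg.Agent.ChevalleyStructure.Elts
  Cfsg.Agent.ChevalleyStructure.NConj Cfsg.Agent.ChevalleyStructure.BNChev Cfsg.Agent.S1042
  Cfsg.Agent.Schreier.ChevLocal Cfsg.Agent.H70.AutFix Cfsg.Agent.H70.ChevTab Cfsg.Agent.H70.ChevFix

universe u

variable {D : ChevalleyDatum} (hD : InList D) {F : Type u} [Field F]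

/-- `n_r(t)` as an element of the Chevalley group. -/
def ne (r : ℕ) (t : F) : ↥(D.group F) := ⟨nG hD r t, nG_mem_group hD r t⟩

/-- `h_r(t)` as an element of the Chevalley group. -/
def he (r : ℕ) (t : F) : ↥(D.group F) := ⟨hG hD r t, hG_mem_group hD r t⟩

@[simp] theorem coe_ne (r : ℕ) (t : F) : ((ne hD r t : ↥(D.group F)) : GL D.Idx F) = nG hD r t := rfl
@[simp] theorem coe_he (r : ℕ) (t : F) : ((he hD r t : ↥(D.group F)) : GL D.Idx F) = hG hD r t := rfl

theorem ne_def (r : ℕ) (t : F) : ne hD r t = xe hD r t * (xe hD (D.neg r) (-t⁻¹) * xe hD r t) :=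
  Subtype.ext (nG_def hD r t)

theorem ne_inv (r : ℕ) (t : F) : (ne hD r t)⁻¹ = ne hD r (-t) := Subtype.ext (nG_inv hD r t)

theorem he_eq (r : ℕ) (t : F) : he hD r t = ne hD r t * (ne hD r 1)⁻¹ := Subtype.ext (hG_eq hD r t)

theorem ne_eq (r : ℕ) (t : F) : ne hD r t = he hD r t * ne hD r 1 := Subtype.ext (nG_eq hD r t)

theorem he_mem_HH {r : ℕ} (hr : r < D.nroots) {t : F} (ht : t ≠ 0) : he hD r t ∈ HH D F :=
  hG_mem_diagonal hD hr ht

/-- `h_{p_i}(c) x_s(t) h_{p_i}(c)⁻¹ = x_s(c ^ A_{p_i, s} t)` -/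
theorem he_conj {i s : ℕ} (hi : i < D.rank) (hs : s < D.nroots) {c : F} (hc : c ≠ 0) (t : F) :
    he hD (D.simple i) c * xe hD s t * (he hD (D.simple i) c)⁻¹ = xe hD s (c ^ D.cartan i s * t) := by
  rw [mul_inv_eq_iff_eq_mul]
  apply Subtype.ext
  refine Units.ext ?_
  show ((hG hD (D.simple i) c : GL D.Idx F) : Matrix D.Idx D.Idx F) * D.x F s t =
    D.x F s (c ^ D.cartan i s * t) * ((hG hD (D.simple i) c : GL D.Idx F) : Matrix D.Idx D.Idx F)
  rw [coe_hG]
  exact S1032.result D hD i s hi hs c hc t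

theorem conj_ne_one {i : ℕ} (hi : i < D.rank) :
    MulAut.conj (ne hD (D.simple i) (1 : F)) • XX D F (D.simple i) = XX D F (D.neg (D.simple i)) := by
  obtain ⟨η, hη, h1, -⟩ := conj_x (F := F) hD hi (simple_lt hD hi)
  have h2 : D.reflectRoot i (D.simple i) = D.neg (D.simple i) := if_pos rfl
  rw [h2] at h1
  apply le_antisymm
  · intro g hg
    rw [mem_smul_iff, mem_XX hD] at hg
    obtain ⟨t, ht⟩ := hg
    rw [mem_XX hD]
    refine ⟨η * t, Subtype.ext ?_⟩
    rw [coe_xe, ← h1 t]
    have h3 := congrArg (MulAut.conj (ne hD (D.simple i) (1 : F))) ht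
    rw [MulAut.apply_inv_self] at h3
    rw [h3]
    rfl
  · intro g hg
    rw [mem_XX hD] at hg
    obtain ⟨t, rfl⟩ := hg
    rw [mem_smul_iff, mem_XX hD]
    refine ⟨η * t, ?_⟩
    have h4 : xe hD (D.neg (D.simple i)) t = MulAut.conj (ne hD (D.simple i) (1 : F)) (xe hD (D.simple i) (η * t)) := by
      apply Subtype.ext
      show xG hD (D.neg (D.simple i)) t = nS hD F i * xG hD (D.simple i) (η * t) * (nS hD F i)⁻¹
      rw [h1, ← mul_assoc, sign_mul_self hη, one_mul]
    rw [h4, MulAut.inv_apply_self]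

/-- `n_p(t) X_p n_p(t)⁻¹ = X_{-p}` -/
theorem conj_ne {i : ℕ} (hi : i < D.rank) {t : F} (ht : t ≠ 0) :
    MulAut.conj (ne hD (D.simple i) t) • XX D F (D.simple i) = XX D F (D.neg (D.simple i)) := by
  rw [ne_eq, conj_mul_smul, conj_ne_one hD hi]
  exact conj_XX hD (he_mem_HH hD (simple_lt hD hi) ht) (neg_simple_lt hD hi)

theorem conj_xe_self (r : ℕ) (t : F) : MulAut.conj (xe hD r t) • XX D F r = XX D F r := by
  rw [← mem_normalizer_iff_smul]
  exact Subgroup.le_normalizer (xe_mem_XX hD r t)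

theorem XX_simple_ne (hD : InList D) {i : ℕ} (hi : i < D.rank) : XX D F (D.simple i) ≠ XX D F (D.neg (D.simple i)) := by
  intro h
  have h1 : xe hD (D.neg (D.simple i)) (1 : F) ∈ XX D F (D.simple i) := by
    rw [h]; exact xe_mem_XX hD _ _
  obtain ⟨t, ht⟩ := (mem_XX hD).1 h1
  have h2 : xG hD (D.neg (D.simple i)) (1 : F) ∈ D.borelSubgroup F := by
    have h3 : xG hD (D.neg (D.simple i)) (1 : F) = xG hD (D.simple i) t := congrArg Subtype.val ht
    rw [h3]
    exact Subgroup.mem_sup_left (xG_mem_posUnipotent hD (simple_pos hD hi) _)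
  exact neg_not_mem_borel hD hi one_ne_zero h2

/-- `x_{-p}(a)` normalises `X_p` only for `a = 0`. -/
theorem eq_zero_of_normalizes {i : ℕ} (hi : i < D.rank) {a : F}
    (h : MulAut.conj (xe hD (D.neg (D.simple i)) a) • XX D F (D.simple i) = XX D F (D.simple i)) : a = 0 := by
  by_contra ha
  have h1 := xG_neg_eq (F := F) hD (D.simple i) (-a⁻¹)
  rw [inv_neg, inv_inv, neg_neg, neg_neg] at h1
  have h2 : ne hD (D.simple i) (-a⁻¹) = (xe hD (D.simple i) a⁻¹)⁻¹ * xe hD (D.neg (D.simple i)) a *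
      (xe hD (D.simple i) a⁻¹)⁻¹ := by
    apply Subtype.ext
    show nG hD (D.simple i) (-a⁻¹) = (xG hD (D.simple i) a⁻¹)⁻¹ * xG hD (D.neg (D.simple i)) a *
      (xG hD (D.simple i) a⁻¹)⁻¹
    rw [h1]; group
  have h3 := conj_ne hD hi (t := -a⁻¹) (neg_ne_zero.2 (inv_ne_zero ha))
  rw [h2, conj_mul_smul, conj_mul_smul, ← xe_neg, conj_xe_self, h, conj_xe_self] at h3
  exact XX_simple_ne hD hi h3

/-! ### An automorphism permuting the root subgroups of the fundamental roots and their negatives -/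

/-- `φ` maps `X_{±p_i}` onto `X_{±p_{π i}}`. -/
structure Perm (D : ChevalleyDatum) (F : Type u) [Field F] (φ : MulAut ↥(D.group F)) (π : Equiv.Perm (Fin D.rank)) :
    Prop where
  pos : ∀ i : Fin D.rank, φ • XX D F (D.simple i) = XX D F (D.simple (π i))
  neg : ∀ i : Fin D.rank, φ • XX D F (D.neg (D.simple i)) = XX D F (D.neg (D.simple (π i)))

/-- the group of all automorphisms which permute the groups `X_{±p_i}` -/
theorem Perm.mul {φ ψ : MulAut ↥(D.group F)} {π ρ : Equiv.Perm (Fin D.rank)} (h1 : Perm D F φ π) (h2 : Perm D F ψ ρ) :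
    Perm D F (φ * ψ) (π * ρ) where
  pos i := by rw [mul_smul, h2.pos, h1.pos]; rfl
  neg i := by rw [mul_smul, h2.neg, h1.neg]; rfl

theorem Perm.inv {φ : MulAut ↥(D.group F)} {π : Equiv.Perm (Fin D.rank)} (h1 : Perm D F φ π) :
    Perm D F φ⁻¹ π⁻¹ where
  pos i := by
    rw [inv_smul_eq_iff, h1.pos]
    simp
  neg i := by
    rw [inv_smul_eq_iff, h1.neg]
    simp

theorem Perm.one : Perm D F (1 : MulAut ↥(D.group F)) 1 where
  pos i := by rw [one_smul]; rfl
  neg i := by rw [one_smul]; rfl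

include hD in
theorem Perm.unique {φ : MulAut ↥(D.group F)} {π ρ : Equiv.Perm (Fin D.rank)} (h1 : Perm D F φ π)
    (h2 : Perm D F φ ρ) : π = ρ := by
  apply Equiv.ext
  intro i
  exact YY_injective (F := F) hD ((h1.neg i).symm.trans (h2.neg i))

/-- The edges of the diagram: `X_{p_i}` and `X_{p_j}` commute exactly if `A_{ij} = 0`. -/
theorem comm_simple_iff (hD : InList D) {i j : Fin D.rank} (hij : i ≠ j) :
    (∀ x ∈ XX D F (D.simple i), ∀ y ∈ XX D F (D.simple j), x * y = y * x) ↔ D.cartan i (D.simple j) = 0 := by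
  have hij' : (i : ℕ) ≠ j := fun h => hij (Fin.ext h)
  have hlti := simple_lt hD i.2
  have hltj := simple_lt hD j.2
  constructor
  · intro h
    -- `n_i` centralises `X_j`
    have h1 : ∀ t : F, nn hD F i * xe hD (D.simple j) t * (nn hD F i)⁻¹ = xe hD (D.simple j) t := by
      intro t
      have h2 : nn hD F i = ne hD (D.simple i) (1 : F) := rfl
      rw [mul_inv_eq_iff_eq_mul, h2, ne_def]
      have c1 : ∀ s : F, xe hD (D.simple i) s * xe hD (D.simple j) t = xe hD (D.simple j) t * xe hD (D.simple i) s :=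
        fun s => h _ (xe_mem_XX hD _ _) _ (xe_mem_XX hD _ _)
      have c2 : ∀ s : F, xe hD (D.neg (D.simple i)) s * xe hD (D.simple j) t =
          xe hD (D.simple j) t * xe hD (D.neg (D.simple i)) s := fun s => (comm_opp hD (Ne.symm hij) t s).symm
      rw [mul_assoc, mul_assoc, c1, ← mul_assoc (xe hD (D.neg (D.simple i)) _) _ _, c2,
        ← mul_assoc (xe hD (D.simple i) _) _ _, ← mul_assoc (xe hD (D.simple i) _) _ _, c1]
      simp only [mul_assoc]
    obtain ⟨η, hη, h2, -⟩ := conj_x (F := F) hD i.2 hltj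
    have hG := RootComb.good_of_mem hD
    rw [← hG.reflect_eq_iff i.2 hltj]
    have h3 : ∀ t : F, xG hD (D.reflectRoot i (D.simple j)) (η * t) = xG hD (D.simple j) t := by
      intro t
      rw [← h2 t]
      exact congrArg Subtype.val (h1 t)
    refine NPerm.rootSubgroup_injective hD F (Reach.reflect_lt hD i.2 hltj) hltj ?_
    apply le_antisymm
    · intro g hg
      obtain ⟨t, rfl⟩ := (mem_rootSubgroup_iff hD _ _).1 hg
      have h4 := h3 (η * t)
      rw [← mul_assoc, sign_mul_self hη, one_mul] at h4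
      rw [h4]
      exact xG_mem_rootSubgroup hD _ _
    · intro g hg
      obtain ⟨t, rfl⟩ := (mem_rootSubgroup_iff hD _ _).1 hg
      rw [← h3]
      exact xG_mem_rootSubgroup hD _ _
  · intro h0 x hx y hy
    obtain ⟨s, rfl⟩ := (mem_XX hD).1 hx
    obtain ⟨t, rfl⟩ := (mem_XX hD).1 hy
    obtain ⟨h1, h2⟩ := orth_spec hD i.2 j.2 hij' h0
    obtain ⟨-, h3, -⟩ := opp_spec hD i.2 j.2 hij'
    apply Subtype.ext
    refine TitsThree.KExcBase.comm_nil hD hlti hltj (Ne.symm h3) ?_ h1 s t
    intro e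
    apply h2
    rw [e, Reach.neg_neg hD hlti]

section

variable {φ : MulAut ↥(D.group F)} {π : Equiv.Perm (Fin D.rank)} (hφ : Perm D F φ π)

include hφ

theorem exists_f (i : Fin D.rank) (t : F) : ∃ s : F, φ (xe hD (D.simple i) t) = xe hD (D.simple (π i)) s := by
  have h : φ (xe hD (D.simple i) t) ∈ XX D F (D.simple (π i)) := by
    rw [← hφ.pos, apply_mem_smul_iff]
    exact xe_mem_XX hD _ _
  exact (mem_XX hD).1 h

theorem exists_g (i : Fin D.rank) (t : F) :
    ∃ s : F, φ (xe hD (D.neg (D.simple i)) t) = xe hD (D.neg (D.simple (π i))) s := by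
  have h : φ (xe hD (D.neg (D.simple i)) t) ∈ XX D F (D.neg (D.simple (π i))) := by
    rw [← hφ.neg, apply_mem_smul_iff]
    exact xe_mem_XX hD _ _
  exact (mem_XX hD).1 h

theorem cartan_eq_zero_iff (hD : InList D) {i j : Fin D.rank} (hij : i ≠ j) :
    D.cartan (π i) (D.simple (π j)) = 0 ↔ D.cartan i (D.simple j) = 0 := by
  rw [← comm_simple_iff (F := F) hD hij, ← comm_simple_iff (F := F) hD (fun h => hij (π.injective h)), ← hφ.pos, ← hφ.pos]
  constructor
  · intro h x hx y hy
    have h3 := h (φ x) ((apply_mem_smul_iff _ _ _).2 hx) (φ y) ((apply_mem_smul_iff _ _ _).2 hy)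
    rw [← map_mul, ← map_mul] at h3
    exact φ.injective h3
  · intro h x hx y hy
    have h3 := congrArg φ (h _ ((mem_smul_iff _ _ _).1 hx) _ ((mem_smul_iff _ _ _).1 hy))
    rw [map_mul, map_mul, MulAut.apply_inv_self, MulAut.apply_inv_self] at h3
    exact h3

/-- The values on the root elements. -/
theorem exists_field : ∃ (c : Fin D.rank → F) (σ : Fin D.rank → (F ≃+* F)), (∀ i, c i ≠ 0) ∧
    (∀ (i : Fin D.rank) (t : F), φ (xe hD (D.simple i) t) = xe hD (D.simple (π i)) (c i * σ i t)) ∧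
    (∀ (i : Fin D.rank) (t : F), φ (xe hD (D.neg (D.simple i)) t) = xe hD (D.neg (D.simple (π i))) ((c i)⁻¹ * σ i t)) ∧
    (∀ (i j : Fin D.rank) (a : F), a ≠ 0 →
      σ j (a ^ D.cartan i (D.simple j)) = (σ i a) ^ D.cartan (π i) (D.simple (π j))) := by
  choose f hf using exists_f hD hφ
  choose g hg using exists_g hD hφ
  have hsl : ∀ i : Fin D.rank, D.simple i < D.nroots := fun i => simple_lt hD i.2
  have hnl : ∀ i : Fin D.rank, D.neg (D.simple i) < D.nroots := fun i => neg_simple_lt hD i.2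
  have fadd : ∀ i s t, f i (s + t) = f i s + f i t := by
    intro i s t
    apply xe_inj hD (hsl (π i))
    rw [← hf, xe_add, map_mul, hf, hf, ← xe_add]
  have gadd : ∀ i s t, g i (s + t) = g i s + g i t := by
    intro i s t
    apply xe_inj hD (hnl (π i))
    rw [← hg, xe_add, map_mul, hg, hg, ← xe_add]
  have finj : ∀ i, Function.Injective (f i) := by
    intro i s t h
    apply xe_inj hD (hsl i)
    apply φ.injective
    rw [hf, hf, h]
  have fzero : ∀ i, f i 0 = 0 := by
    intro i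
    have := fadd i 0 0
    rw [add_zero] at this
    exact left_eq_add.1 this
  have gzero : ∀ i, g i 0 = 0 := by
    intro i
    have := gadd i 0 0
    rw [add_zero] at this
    exact left_eq_add.1 this
  have fneg : ∀ i t, f i (-t) = - f i t := by
    intro i t
    have := fadd i t (-t)
    rw [add_neg_cancel, fzero] at this
    exact (neg_eq_of_add_eq_zero_right this.symm).symm
  have gneg : ∀ i t, g i (-t) = - g i t := by
    intro i t
    have := gadd i t (-t)
    rw [add_neg_cancel, gzero] at this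
    exact (neg_eq_of_add_eq_zero_right this.symm).symm
  have fne : ∀ i t, t ≠ 0 → f i t ≠ 0 := by
    intro i t ht h
    exact ht (finj i (h.trans (fzero i).symm))
  have fsurj : ∀ i, Function.Surjective (f i) := by
    intro i s
    have h1 : xe hD (D.simple (π i)) s ∈ φ • XX D F (D.simple i) := by
      rw [hφ.pos]; exact xe_mem_XX hD _ _
    rw [mem_smul_iff, mem_XX hD] at h1
    obtain ⟨t, ht⟩ := h1
    refine ⟨t, ?_⟩
    apply xe_inj hD (hsl (π i))
    rw [← hf, ← ht, MulAut.apply_inv_self]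
  -- the relation between `f` and `g`
  have key : ∀ i t, t ≠ 0 → g i (t⁻¹) = (f i t)⁻¹ := by
    intro i t ht
    have h1 : MulAut.conj (φ (ne hD (D.simple i) t)) • XX D F (D.simple (π i)) = XX D F (D.neg (D.simple (π i))) := by
      rw [← hφ.pos, ← smul_conj_smul, conj_ne hD i.2 ht, hφ.neg]
    have h2 := conj_ne hD (π i).2 (fne i t ht)
    have h3 : (ne hD (D.simple (π i)) (f i t))⁻¹ * φ (ne hD (D.simple i) t) =
        (xe hD (D.simple (π i)) (f i t))⁻¹ * xe hD (D.neg (D.simple (π i))) ((f i t)⁻¹ + g i (-t⁻¹)) *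
          xe hD (D.simple (π i)) (f i t) := by
      rw [ne_def, ne_def, map_mul, map_mul, hf, hg, xe_add]
      have h4 : xe hD (D.neg (D.simple (π i))) (-(f i t)⁻¹) = (xe hD (D.neg (D.simple (π i))) (f i t)⁻¹)⁻¹ :=
        xe_neg hD _ _
      rw [h4]
      group
    have h4 : MulAut.conj ((ne hD (D.simple (π i)) (f i t))⁻¹ * φ (ne hD (D.simple i) t)) • XX D F (D.simple (π i)) =
        XX D F (D.simple (π i)) := by
      rw [conj_mul_smul, h1, map_inv, inv_smul_eq_iff, h2]
    rw [h3, conj_mul_smul, conj_mul_smul, conj_xe_self, map_inv, inv_smul_eq_iff, conj_xe_self] at h4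
    have h5 := eq_zero_of_normalizes hD (π i).2 h4
    rw [gneg] at h5
    exact (add_neg_eq_zero.1 h5).symm
  have gval : ∀ i t, t ≠ 0 → g i t = (f i t⁻¹)⁻¹ := by
    intro i t ht
    have := key i t⁻¹ (inv_ne_zero ht)
    rwa [inv_inv] at this
  -- the images of the `n_i(t)` and `h_i(t)`
  have φne : ∀ (i : Fin D.rank) (t : F), t ≠ 0 → φ (ne hD (D.simple i) t) = ne hD (D.simple (π i)) (f i t) := by
    intro i t ht
    rw [ne_def, ne_def, map_mul, map_mul, hf, hg, gneg, key i t ht]
  have φhe : ∀ (i : Fin D.rank) (c : F), c ≠ 0 → φ (he hD (D.simple i) c) =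
      he hD (D.simple (π i)) (f i c) * (he hD (D.simple (π i)) (f i 1))⁻¹ := by
    intro i c hc
    rw [he_eq, map_mul, map_inv, φne i c hc, φne i 1 one_ne_zero, he_eq, he_eq]
    group
  have rel : ∀ (i j : Fin D.rank) (c t : F), c ≠ 0 →
      f j (c ^ D.cartan i (D.simple j) * t) = (f i c / f i 1) ^ D.cartan (π i) (D.simple (π j)) * f j t := by
    intro i j c t hc
    apply xe_inj hD (hsl (π j))
    rw [← hf, ← he_conj hD i.2 (hsl j) hc, map_mul, map_mul, map_inv, hf, φhe i c hc]
    have h1 := he_conj hD (i := π i) (s := D.simple (π j)) (π i).2 (hsl (π j)) (fne i 1 one_ne_zero)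
    have h2 : (he hD (D.simple (π i)) (f i 1))⁻¹ * xe hD (D.simple (π j)) (f j t) * he hD (D.simple (π i)) (f i 1) =
        xe hD (D.simple (π j)) ((f i 1 ^ D.cartan (π i) (D.simple (π j)))⁻¹ * f j t) := by
      have h3 := h1 ((f i 1 ^ D.cartan (π i) (D.simple (π j)))⁻¹ * f j t)
      rw [← mul_assoc, mul_inv_cancel₀ (zpow_ne_zero _ (fne i 1 one_ne_zero)), one_mul] at h3
      rw [← h3]
      group
    have h3 : he hD (D.simple (π i)) (f i c) * (he hD (D.simple (π i)) (f i 1))⁻¹ * xe hD (D.simple (π j)) (f j t) *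
        (he hD (D.simple (π i)) (f i c) * (he hD (D.simple (π i)) (f i 1))⁻¹)⁻¹ =
        he hD (D.simple (π i)) (f i c) * ((he hD (D.simple (π i)) (f i 1))⁻¹ * xe hD (D.simple (π j)) (f j t) *
          he hD (D.simple (π i)) (f i 1)) * (he hD (D.simple (π i)) (f i c))⁻¹ := by
      group
    rw [h3, h2, he_conj hD (π i).2 (hsl (π j)) (fne i c hc), div_zpow, ← mul_assoc, div_eq_mul_inv]
  -- multiplicativity
  have hG := RootComb.good_of_mem hD
  let τ : Fin D.rank → F → F := fun i t => f i t / f i 1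
  have τone : ∀ i, τ i 1 = 1 := fun i => div_self (fne i 1 one_ne_zero)
  have τadd : ∀ i s t, τ i (s + t) = τ i s + τ i t := by
    intro i s t
    show f i (s + t) / f i 1 = f i s / f i 1 + f i t / f i 1
    rw [fadd, add_div]
  have τzero : ∀ i, τ i 0 = 0 := by
    intro i
    show f i 0 / f i 1 = 0
    rw [fzero, zero_div]
  have τsq : ∀ i c t, τ i (c ^ 2 * t) = τ i c ^ 2 * τ i t := by
    intro i c t
    by_cases hc : c = 0
    · rw [hc]
      rw [zero_pow two_ne_zero, zero_mul, τzero, zero_pow two_ne_zero, zero_mul]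
    · have h := rel i i c t hc
      rw [hG.cartan_simple i.2, hG.cartan_simple (π i).2, zpow_ofNat, zpow_ofNat] at h
      show f i (c ^ 2 * t) / f i 1 = (f i c / f i 1) ^ 2 * (f i t / f i 1)
      rw [h, mul_div_assoc]
  have τmul : ∀ i s t, τ i (s * t) = τ i s * τ i t := by
    intro i s t
    have hsq : ∀ c, τ i (c ^ 2) = τ i c ^ 2 := by
      intro c
      have := τsq i c 1
      rwa [mul_one, τone, mul_one] at this
    by_cases h2 : (2 : F) = 0
    · -- characteristic two: sums of squares are squares, use the square trick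
      have hchar : ∀ x : F, x + x = 0 := by
        intro x
        rw [← two_mul, h2, zero_mul]
      -- `τ (s t)² = τ (s² t²) = τ (s)² τ(t²) = τ(s)² τ(t)²`
      have h3 : τ i (s * t) ^ 2 = (τ i s * τ i t) ^ 2 := by
        rw [← hsq, mul_pow, τsq, hsq, mul_pow]
      have h4 : (τ i (s * t) - τ i s * τ i t) ^ 2 = 0 := by
        have h5 : (τ i (s * t) - τ i s * τ i t) ^ 2 = τ i (s * t) ^ 2 + (τ i s * τ i t) ^ 2 -
            2 * (τ i (s * t) * (τ i s * τ i t)) := by ring
        rw [h5, h3, h2, zero_mul, sub_zero]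
        exact hchar _
      exact sub_eq_zero.1 (pow_eq_zero_iff (two_ne_zero) |>.1 h4)
    · have h3 : τ i ((s + t) ^ 2) = τ i (s ^ 2) + τ i (s * t) + τ i (s * t) + τ i (t ^ 2) := by
        rw [← τadd, ← τadd, ← τadd]
        congr 1
        ring
      rw [hsq, hsq, hsq, τadd] at h3
      have h4 : (2 : F) * (τ i (s * t) - τ i s * τ i t) = 0 := by linear_combination -h3
      rcases mul_eq_zero.1 h4 with h5 | h5
      · exact absurd h5 h2
      · exact sub_eq_zero.1 h5
  have τbij : ∀ i, Function.Bijective (τ i) := by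
    intro i
    constructor
    · intro s t h
      apply finj i
      have h1 : f i s / f i 1 = f i t / f i 1 := h
      exact (div_left_inj' (fne i 1 one_ne_zero)).1 h1
    · intro s
      obtain ⟨t, ht⟩ := fsurj i (s * f i 1)
      refine ⟨t, ?_⟩
      show f i t / f i 1 = s
      rw [ht, mul_div_cancel_right₀ _ (fne i 1 one_ne_zero)]
  let σ : Fin D.rank → (F ≃+* F) := fun i =>
    { Equiv.ofBijective (τ i) (τbij i) with
      map_mul' := τmul i
      map_add' := τadd i }
  have σval : ∀ i t, σ i t = f i t / f i 1 := fun i t => rfl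
  refine ⟨fun i => f i 1, σ, fun i => fne i 1 one_ne_zero, ?_, ?_, ?_⟩
  · intro i t
    rw [hf, σval, mul_div_cancel₀ _ (fne i 1 one_ne_zero)]
  · intro i t
    rw [hg]
    congr 1
    by_cases ht : t = 0
    · rw [ht, gzero, map_zero, mul_zero]
    · rw [gval i t ht]
      have h1 : f i t⁻¹ = f i 1 * (σ i t)⁻¹ := by
        rw [← map_inv₀, σval, mul_div_cancel₀ _ (fne i 1 one_ne_zero)]
      rw [h1, mul_inv, inv_inv]
  · intro i j a ha
    have h := rel i j a 1 ha
    rw [mul_one] at h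
    rw [σval, σval, h, mul_div_assoc, div_self (fne j 1 one_ne_zero), mul_one]

end

end Cfsg.Agent.H70.ChevField
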