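import Cfsg.Prelude.Def_ChevAutomorphisms
import Cfsg.Agent.H70.ChevField

/-!
# The permutation of the nodes induced by an automorphism is a symmetry of the Dynkin diagram
-/

set_option autoImplicit false

namespace Cfsg.Agent.H70.DiagSym

open Cfsg Cfsg.Lie Cfsg.Agent.ChevalleyStructure Cfsg.Agent.ChevalleyStructure.Elts
  Cfsg.Agent.H70.ChevField

universe u

/-- simply laced -/
def SLac (D : ChevalleyDatum) : Prop := ∀ i < D.rank, ∀ j < D.rank, i ≠ j →
  (D.cartan i (D.simple j) = 0 ∧ D.bonds i j = 0) ∨ (D.cartan i (D.simple j) ≠ 0 ∧ D.bonds i j = 1)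

instance (D : ChevalleyDatum) : Decidable (SLac D) :=
  inferInstanceAs (Decidable (∀ i < D.rank, ∀ j < D.rank, i ≠ j →
    (D.cartan i (D.simple j) = 0 ∧ D.bonds i j = 0) ∨ (D.cartan i (D.simple j) ≠ 0 ∧ D.bonds i j = 1)))

/-- a permutation of the nodes preserving the edges -/
def EdgePres (D : ChevalleyDatum) (π : Equiv.Perm (Fin D.rank)) : Prop :=
  ∀ i j : Fin D.rank, i ≠ j → (D.cartan (π i) (D.simple (π j)) = 0 ↔ D.cartan i (D.simple j) = 0)

theorem of_slac {D : ChevalleyDatum} (hs : SLac D) {π : Equiv.Perm (Fin D.rank)} (h : EdgePres D π) :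
    D.IsDiagramSymmetry π := by
  intro i j hij
  have h1 := h i j hij
  have hij' : (i : ℕ) ≠ j := fun e => hij (Fin.ext e)
  have hij2 : ((π i : Fin D.rank) : ℕ) ≠ π j := fun e => hij (π.injective (Fin.ext e))
  rcases hs i i.2 j j.2 hij' with ⟨h2, h3⟩ | ⟨h2, h3⟩ <;>
    rcases hs (π i) (π i).2 (π j) (π j).2 hij2 with ⟨h4, h5⟩ | ⟨h4, h5⟩
  · rw [h3, h5]
  · exact absurd (h1.2 h2) h4
  · exact absurd (h1.1 h4) h2
  · rw [h3, h5]

theorem bonds_comm (D : ChevalleyDatum) (i j : ℕ) : D.bonds i j = D.bonds j i := mul_comm _ _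

theorem symm_G2 (π : Equiv.Perm (Fin chevG2.rank)) : chevG2.IsDiagramSymmetry π := by
  revert π
  unfold ChevalleyDatum.IsDiagramSymmetry
  decide +kernel

theorem symm_B2 (π : Equiv.Perm (Fin chevB2.rank)) : chevB2.IsDiagramSymmetry π := by
  revert π
  unfold ChevalleyDatum.IsDiagramSymmetry
  decide +kernel

theorem symm_F4 (π : Equiv.Perm (Fin chevF4.rank)) (h : EdgePres chevF4 π) : chevF4.IsDiagramSymmetry π := by
  revert h
  revert π
  unfold ChevalleyDatum.IsDiagramSymmetry EdgePres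
  decide +kernel

theorem of_edgePres {D : ChevalleyDatum} (hD : InList D) {π : Equiv.Perm (Fin D.rank)} (h : EdgePres D π) :
    D.IsDiagramSymmetry π := by
  simp only [InList, List.mem_cons, List.not_mem_nil, or_false] at hD
  rcases hD with rfl | rfl | rfl | rfl | rfl | rfl | rfl
  · exact symm_G2 π
  · exact symm_B2 π
  · exact of_slac (by decide +kernel) h
  · exact symm_F4 π h
  · exact of_slac (by decide +kernel) h
  · exact of_slac (by decide +kernel) h
  · exact of_slac (by decide +kernel) h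

/-- **The permutation of the nodes is a symmetry of the diagram.** -/
theorem isDiagramSymmetry {D : ChevalleyDatum} (hD : InList D) {F : Type u} [Field F] {φ : MulAut ↥(D.group F)}
    {π : Equiv.Perm (Fin D.rank)} (hφ : Perm D F φ π) : D.IsDiagramSymmetry π :=
  of_edgePres hD fun _ _ hij => cartan_eq_zero_iff hφ hD hij

end Cfsg.Agent.H70.DiagSym
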