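import Cfsg.Prelude.Def_KGroupFacts
import Cfsg.Agent.H70.OutCount
import Cfsg.Agent.H70.DiagSym
import Cfsg.Agent.H79.DiagSymm
import Cfsg.Agent.S1035
import Cfsg.Agent.S1081
import Cfsg.Agent.Lib.FieldAutCard

/-!
# Outer automorphism groups of the Chevalley groups of types `E₆`, `E₇`, `E₈`
-/

set_option autoImplicit false

namespace Cfsg.Agent.H70.OutE

open scoped Pointwise
open Cfsg Cfsg.Lie Cfsg.Agent.ChevalleyStructure Cfsg.Agent.ChevalleyStructure.Elts
  Cfsg.Agent.H70.ChevFix Cfsg.Agent.H70.ChevField Cfsg.Agent.H70.OutCount Cfsg.Agent.H79.DiagSymm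

universe u

theorem pos_of_card {F : Type u} [Field F] [Fintype F] {p f : ℕ} [Fact p.Prime]
    (hF : Fintype.card F = p ^ f) : 1 ≤ f := by
  rcases Nat.eq_zero_or_pos f with h | h
  · exfalso
    rw [h, pow_zero] at hF
    have := Fintype.one_lt_card (α := F)
    omega
  · exact h

/-- the final count: `|Out G| = |R| · d · f` if `d · |H| = (q - 1)^l` -/
theorem card_out_eq {D : ChevalleyDatum} (hD : InList D) {F : Type u} [Field F] [Fintype F] {p f : ℕ} [Fact p.Prime]
    (hF : Fintype.card F = p ^ f) {d : ℕ}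
    (hd : d * Nat.card (D.diagonalSubgroup F) = (p ^ f - 1) ^ D.rank) {r : ℕ}
    (hr : Nat.card ↥(realised hD F) = r) :
    Nat.card (Out ↥(D.group F)) = r * d * f := by
  have h1 := card_out_mul hD F
  have h2 : Nat.card F = p ^ f := by rw [Nat.card_eq_fintype_card, hF]
  have h3 : Nat.card (F ≃+* F) = f := Cfsg.Agent.Lib.FieldAutCard.card_ringAut (pos_of_card hF) hF
  have h4 : 0 < Nat.card (D.diagonalSubgroup F) := by
    exact Nat.card_pos
  rw [h2, h3, hr, ← hd] at h1
  refine Nat.eq_of_mul_eq_mul_right h4 (h1.trans ?_)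
  ring

theorem realised_eq_bot {D : ChevalleyDatum} (hD : InList D) {F : Type u} [Field F]
    (h : ∀ π : Equiv.Perm (Fin D.rank), D.IsDiagramSymmetry π → π = 1) : Nat.card ↥(realised hD F) = 1 := by
  have : realised hD F = ⊥ := by
    rw [eq_bot_iff]
    rintro π ⟨φ, hφ⟩
    exact Subgroup.mem_bot.2 (h π (DiagSym.isDiagramSymmetry hD hφ))
  rw [this]
  exact Subgroup.card_bot

theorem inList_E6 : InList chevE6 := by simp [InList]
theorem inList_E7 : InList chevE7 := by simp [InList]
theorem inList_E8 : InList chevE8 := by simp [InList]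

theorem card_out_E7 {F : Type u} [Field F] [Fintype F] {p f : ℕ} [Fact p.Prime]
    (hF : Fintype.card F = p ^ f) : Nat.card (Out ↥(chevE7.group F)) = Nat.gcd 2 (p ^ f - 1) * f := by
  have h1 := S1035.result (F := F) (q := p ^ f) hF (chevE7, Nat.gcd 2 (p ^ f - 1)) (by simp)
  have h2 := card_out_eq inList_E7 hF h1 (realised_eq_bot inList_E7 fun π hπ => eq_one_E7 hπ)
  rw [h2, one_mul]

theorem card_out_E8 {F : Type u} [Field F] [Fintype F] {p f : ℕ} [Fact p.Prime]
    (hF : Fintype.card F = p ^ f) : Nat.card (Out ↥(chevE8.group F)) = f := by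
  have h1 := S1035.result (F := F) (q := p ^ f) hF (chevE8, 1) (by simp)
  have h2 := card_out_eq inList_E8 hF h1 (realised_eq_bot inList_E8 fun π hπ => eq_one_E8 hπ)
  rw [h2, one_mul, one_mul]

/-- the non-trivial symmetry of the diagram of type `E₆` -/
def flip : Equiv.Perm (Fin chevE6.rank) where
  toFun i := if h : ([5, 1, 4, 3, 2, 0].getD (i : ℕ) 0) < chevE6.rank then ⟨[5, 1, 4, 3, 2, 0].getD (i : ℕ) 0, h⟩ else i
  invFun i := if h : ([5, 1, 4, 3, 2, 0].getD (i : ℕ) 0) < chevE6.rank then ⟨[5, 1, 4, 3, 2, 0].getD (i : ℕ) 0, h⟩ else i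
  left_inv := by decide
  right_inv := by decide

theorem flip_val : ∀ i : Fin chevE6.rank, ((flip i : Fin chevE6.rank) : ℕ) = [5, 1, 4, 3, 2, 0].getD (i : ℕ) 0 := by
  decide

theorem flip_ne_one : flip ≠ 1 := by decide

theorem imgs_flip : imgs flip = [5, 1, 4, 3, 2, 0] := by decide

/-- an automorphism mapping `x_r(t)` to `x_s(t)` maps `X_r` onto `X_s` -/
theorem smul_XX {D : ChevalleyDatum} (hD : InList D) {F : Type u} [Field F] {φ : MulAut ↥(D.group F)} {r s : ℕ}
    (h : ∀ t : F, φ (xe hD r t) = xe hD s t) : φ • XX D F r = XX D F s := by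
  ext g
  rw [Subgroup.mem_pointwise_smul_iff_inv_smul_mem, mem_XX hD, mem_XX hD]
  constructor
  · rintro ⟨t, ht⟩
    refine ⟨t, ?_⟩
    rw [← h t, ← ht]
    exact (smul_inv_smul φ g).symm
  · rintro ⟨t, ht⟩
    refine ⟨t, ?_⟩
    rw [ht, ← h t]
    exact inv_smul_smul φ _

theorem flip_realised {F : Type u} [Field F] : flip ∈ realised inList_E6 F := by
  obtain ⟨α, hα⟩ := S1081.result (F := F) (chevE6, [5, 1, 4, 3, 2, 0]) (by simp)
  refine ⟨α, ?_, ?_⟩
  · intro i
    refine smul_XX inList_E6 fun t => ?_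
    apply Subtype.ext
    apply Units.ext
    rw [flip_val i]
    exact (hα (xe inList_E6 (chevE6.simple i) t) i t i.2).1 rfl
  · intro i
    refine smul_XX inList_E6 fun t => ?_
    apply Subtype.ext
    apply Units.ext
    rw [flip_val i]
    exact (hα (xe inList_E6 (chevE6.neg (chevE6.simple i)) t) i t i.2).2 rfl

theorem card_realised_E6 {F : Type u} [Field F] : Nat.card ↥(realised inList_E6 F) = 2 := by
  rw [Nat.card_eq_two_iff]
  refine ⟨1, ⟨flip, flip_realised⟩, ?_, ?_⟩
  · intro h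
    exact flip_ne_one (congrArg Subtype.val h).symm
  · rw [Set.eq_univ_iff_forall]
    rintro ⟨π, φ, hφ⟩
    have h1 := DiagSym.isDiagramSymmetry inList_E6 hφ
    have h2 := imgs_E6 h1
    simp only [List.mem_cons, List.not_mem_nil, or_false] at h2
    rcases h2 with h2 | h2
    · left
      apply Subtype.ext
      exact eq_of_imgs (h2.trans (by rw [OneMemClass.coe_one, imgs_one]; rfl))
    · right
      apply Subtype.ext
      exact eq_of_imgs (h2.trans imgs_flip.symm)

theorem card_out_E6 {F : Type u} [Field F] [Fintype F] {p f : ℕ} [Fact p.Prime]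
    (hF : Fintype.card F = p ^ f) : Nat.card (Out ↥(chevE6.group F)) = 2 * Nat.gcd 3 (p ^ f - 1) * f := by
  have h1 := S1035.result (F := F) (q := p ^ f) hF (chevE6, Nat.gcd 3 (p ^ f - 1)) (by simp)
  exact card_out_eq inList_E6 hF h1 card_realised_E6

end Cfsg.Agent.H70.OutE
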