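import Cfsg.Agent.H70.SzOut

/-!
# Every automorphism of `Sz(q)` is the product of an inner and a field automorphism
-/

set_option autoImplicit false

namespace Cfsg.Agent.H70.SzAutThm

open Cfsg Cfsg.Agent.ThreePrime Cfsg.Agent.ThreePrime.SzRel Cfsg.Agent.LieRecognition.SzMatrix Cfsg.Agent.H70.SzOut

variable {F : Type*} [Field F] [Fintype F] {m : ℕ}

/-- Every automorphism of `Sz(q)` is `conj g` composed with an entrywise field automorphism. -/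
theorem exists_conj_field (hm : 1 ≤ m) (hF : Fintype.card F = 2 ^ (2 * m + 1))
    (ψ : MulAut ↥(Cfsg.Lie.Sz F (2 ^ (m + 1)))) :
    ∃ (g : ↥(Cfsg.Lie.Sz F (2 ^ (m + 1)))) (σ : F ≃+* F), ψ = MulAut.conj g * fieldAut (good hF) σ := by
  have h8 : 8 ≤ Nat.card F := by
    rw [Nat.card_eq_fintype_card, hF]
    exact SzRel.Rel.eight_le hm
  obtain ⟨S, hS⟩ := exists_sylow hm hF
  obtain ⟨g, hg⟩ := exists_fix (ofGood (good hF)) S hS ψ
  obtain ⟨σ, k, hσ⟩ := eq_of_fix h8 (good hF) hg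
  refine ⟨g⁻¹ * (good hF).d k, σ, ?_⟩
  rw [map_mul, mul_assoc, ← hσ, ← mul_assoc, ← map_mul, inv_mul_cancel, map_one, one_mul]

/-- The same in terms of matrix entries. -/
theorem exists_conj_map (hm : 1 ≤ m) (hF : Fintype.card F = 2 ^ (2 * m + 1))
    (ψ : MulAut ↥(Cfsg.Lie.Sz F (2 ^ (m + 1)))) :
    ∃ (g : ↥(Cfsg.Lie.Sz F (2 ^ (m + 1)))) (σ : F ≃+* F) (f : MulAut ↥(Cfsg.Lie.Sz F (2 ^ (m + 1)))),
      (∀ (x : ↥(Cfsg.Lie.Sz F (2 ^ (m + 1)))) (i j : Fin 4),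
        ((f x : GL (Fin 4) F) : Matrix (Fin 4) (Fin 4) F) i j = σ (((x : GL (Fin 4) F) : Matrix (Fin 4) (Fin 4) F) i j)) ∧
      ∀ x, ψ x = g * f x * g⁻¹ := by
  obtain ⟨g, σ, h⟩ := exists_conj_field hm hF ψ
  refine ⟨g, σ, fieldAut (good hF) σ, fun x i j => fieldAut_apply (good hF) σ x i j, fun x => ?_⟩
  rw [h, MulAut.mul_apply, MulAut.conj_apply]

end Cfsg.Agent.H70.SzAutThm
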