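import Cfsg.Agent.H199.NSmMon
import Cfsg.Agent.H961.SevX
import Cfsg.Agent.CpAutMSeven.ZeroComps
import Cfsg.Agent.MSevenT.Closed
import Cfsg.Agent.S0205
import Cfsg.Agent.S1695

/-!
# The Monster: orders of the centralizers of the elements of order 7 (helper70)

* `seven` : `x` of order 7 commuting with a conjugate of `z`: `|C(x)| = 7 |He|`, or no prime `≥ 17` divides it
* `seven_cases` : `x` of order 7: it commutes with a conjugate of `z`, or `C(x)` is solvable
-/

set_option autoImplicit false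
set_option maxRecDepth 100000

namespace Cfsg.Agent.H70.MSeven

open Cfsg Cfsg.Agent.MonsterX Cfsg.Agent.MonsterX.InstData Cfsg.Agent.MonsterX.MainPack Cfsg.Agent.MonsterU
open Cfsg.Agent.MonsterP Cfsg.Agent.MonsterN Cfsg.Agent.LThreeMB
open Cfsg.Agent.MonsterX.MainBasic Cfsg.Agent.MonsterX.MainSimple Cfsg.Agent.MonsterX.Model
open Cfsg.Agent.MonsterU.Lam2 Cfsg.Agent.MonsterU.TwoCls
open Cfsg.Agent.BpSpor.MBigModel
open Cfsg.Agent.H199.NSmMon
open Cfsg.Spor (Co1)
open Subgroup (centralizer zpowers mem_centralizer_singleton_iff)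

/-- a group of order divisible by 4 with only one involution has an element of order 4 -/
theorem exists_sqrt {T : Type*} [Group T] [Finite T] {z : T} (hu : ∀ t : T, t * t = 1 → t = 1 ∨ t = z)
    (h4 : 4 ∣ Nat.card T) : ∃ k : T, k * k = z := by
  have : Fact (Nat.Prime 2) := ⟨Nat.prime_two⟩
  obtain ⟨K, hK⟩ := Sylow.exists_subgroup_card_pow_prime (G := T) 2 (n := 2) (by norm_num; exact h4)
  by_contra hcon
  have hcon' : ∀ k : T, k * k ≠ z := fun k hk => hcon ⟨k, hk⟩
  have h1 : ∀ k ∈ K, k * k = 1 := by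
    intro k hk
    have h2 : k ^ (2 ^ 2) = 1 := by
      have h3 : (⟨k, hk⟩ : ↥K) ^ Nat.card ↥K = 1 := pow_card_eq_one'
      rw [hK] at h3
      exact congrArg Subtype.val h3
    have h3 : (k * k) * (k * k) = 1 := by
      rw [← h2, ← pow_two, ← pow_two, ← pow_mul]
      rfl
    exact (hu _ h3).resolve_right (hcon' k)
  have h2 : ((K : Set T)) ⊆ {1, z} := by
    intro k hk
    rcases hu k (h1 k hk) with h | h
    · exact Or.inl h
    · exact Or.inr h
  have h3 : (K : Set T).ncard ≤ ({1, z} : Set T).ncard := Set.ncard_le_ncard h2 (Set.toFinite _)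
  have h4 : (K : Set T).ncard = 2 ^ 2 := hK
  have h5 : ({1, z} : Set T).ncard ≤ 2 := by
    refine (Set.ncard_insert_le _ _).trans ?_
    rw [Set.ncard_singleton]
  omega

theorem not_dvd_a7 {r : ℕ} (h : Big r) : ¬ r ∣ 2520 := by
  rcases h with rfl | rfl | rfl | rfl | rfl | rfl | rfl | rfl | rfl <;> norm_num

theorem ne_seven {r : ℕ} (h : Big r) : r ≠ 7 := by
  rcases h with rfl | rfl | rfl | rfl | rfl | rfl | rfl | rfl | rfl <;> norm_num

/-- **fixed rank 0, order 7** -/
theorem seven_zero {x : centralizer ({zz} : Set MG)} (hx : orderOf x = 7) (hfr : fr (pi x) = 1) {r : ℕ} (hr : Big r) :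
    ¬ r ∣ Nat.card ↥(centralizer ({(x : MG)} : Set MG)) := by
  have := finite
  have hp7 : Nat.Prime 7 := by norm_num
  have hp : Fact (Nat.Prime 7) := ⟨hp7⟩
  have hx7 : x ^ 7 = 1 := by rw [← hx, pow_orderOf_eq_one]
  obtain ⟨hs, -, hc⟩ := Cfsg.Agent.H961.SevX.xx_facts (MFive.orderOf_pi chart hp7 (by decide) hx) hfr
  have hns : ¬ Group.IsSolvable (XX (pi x)) := not_solvable hs hc (by norm_num) (by norm_num)
  have hz := BpRankZero.Seven.only_zD KDone.lft LThreeB.Row.cent hx7 hfr
  obtain ⟨N, hN⟩ := BpSpor.M5.exists_rad chart (by norm_num) hx hfr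
    (fun d hd hc => by
      have h1 := hz ⟨d * zz * d⁻¹, mem_centralizer_singleton_iff.2 (by
        have h2 : (x : MG) * zz = zz * x := mem_centralizer_singleton_iff.1 x.2
        calc d * zz * d⁻¹ * (x : MG) = d * zz * (d⁻¹ * (x * d)) * d⁻¹ := by group
          _ = d * zz * (d⁻¹ * (d * x)) * d⁻¹ := by rw [hd]
          _ = d * (zz * x) * d⁻¹ := by group
          _ = d * (x * zz) * d⁻¹ := by rw [h2]
          _ = (d * x) * zz * d⁻¹ := by group
          _ = (x * d) * zz * d⁻¹ := by rw [hd]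
          _ = (x : MG) * (d * zz * d⁻¹) := by group)⟩
        (Subtype.ext (by
          show d * zz * d⁻¹ * (d * zz * d⁻¹) = 1
          calc d * zz * d⁻¹ * (d * zz * d⁻¹) = d * (zz * zz) * d⁻¹ := by group
            _ = 1 := by rw [zz_sq]; group)) (Subtype.ext hc)
      rcases h1 with h1 | h1
      · exfalso
        have h2 : d * zz * d⁻¹ = 1 := congrArg Subtype.val h1
        rw [conj_eq_one_iff] at h2
        exact zz_ne h2
      · exact congrArg Subtype.val h1) hs (by rw [hc]; decide)
  have h4 : 4 ∣ Nat.card ↥(centralizer ({zD x} : Set ↥(centralizer ({(x : MG)} : Set MG)))) := by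
    refine Dvd.dvd.trans (by norm_num : 4 ∣ 2520) ?_
    rw [← hc]
    exact Subgroup.card_dvd_of_surjective _ (MFive.toXX_surj chart hp7 (by decide) hx7)
  obtain ⟨k, hk⟩ := exists_sqrt (z := (⟨zD x, mem_centralizer_singleton_iff.2 rfl⟩ :
    ↥(centralizer ({zD x} : Set ↥(centralizer ({(x : MG)} : Set MG)))))) (by
      intro t ht
      rcases hz (t : ↥(centralizer ({(x : MG)} : Set MG))) (congrArg Subtype.val ht)
        (mem_centralizer_singleton_iff.1 t.2) with h | h
      · exact Or.inl (Subtype.ext h)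
      · exact Or.inr (Subtype.ext h)) h4
  refine Cfsg.Agent.H199.NSmAbs.not_dvd_of_rad hN hns (by norm_num) (k := k) (congrArg Subtype.val hk) hr.prime (ne_seven hr) hr.ne.1
    (by rw [hc]; exact not_dvd_a7 hr) ?_
  exact fun h => not_sq hr (h.trans (Subgroup.card_subgroup_dvd_card _))

/-- **The elements of order 7 commuting with a conjugate of `z`.** -/
theorem seven {x : MG} (hx : orderOf x = 7) (he : Ev x) :
    Nat.card ↥(centralizer ({x} : Set MG)) = 7 * 4030387200 ∨
      ∀ r, Big r → ¬ r ∣ Nat.card ↥(centralizer ({x} : Set MG)) := by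
  have := finite
  obtain ⟨x', hx', hc⟩ := exists_in hx he
  rw [← hc]
  have hxo : orderOf (x' : MG) = 7 := by rw [Subgroup.orderOf_coe, hx']
  rcases CpAutMSeven.Ranks.hranks (pi x') (MFive.orderOf_pi chart (by norm_num) (by decide) hx') with h | h
  · exact Or.inr fun r hr => seven_zero hx' h hr
  · left
    obtain ⟨e⟩ := CpAutMSeven.ZeroComps.heSix x' hx' h
    rw [card_XX, hxo, Nat.card_congr e.toEquiv, Cfsg.Agent.S1695.result.2]

/-- **The elements of order 7.** -/
theorem seven_cases {x : MG} (hx : orderOf x = 7) : Ev x ∨ Group.IsSolvable ↥(centralizer ({x} : Set MG)) := by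
  have := finite
  by_cases ho : Odd (Nat.card ↥(centralizer ({x} : Set MG)))
  · exact Or.inr (S0205.result ho)
  · left
    rw [Nat.not_odd_iff_even, even_iff_two_dvd] at ho
    exact Cfsg.Agent.MSevenT.hex7 x hx ho

end Cfsg.Agent.H70.MSeven
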