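import Cfsg.Agent.H83.Count
import Cfsg.Agent.H70.ChevFix
import Cfsg.Agent.H82.RootCent
import Cfsg.Agent.ChevalleyStructure.HMatDiagAll

/-!
# The involutions of `G₂(q)`, `q` even

* `classify` : every involution is conjugate to `x_{11}(1)` (long) or `x_9(1)` (short);
* `not_conj` : these two are not conjugate (jumps of `x - 1` with respect to the height filtration).
-/

set_option autoImplicit false

namespace Cfsg.Agent.H70.G2Even

open Cfsg Cfsg.Lie Cfsg.Agent.ChevalleyStructure Cfsg.Agent.ChevalleyStructure.Elts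
  Cfsg.Agent.ChevalleyStructure.RootCombGood Cfsg.Agent.ChevalleyStructure.NPerm
  Cfsg.Agent.H83.ChevInv Cfsg.Agent.H83.OrthRed Cfsg.Agent.H70.ChevFix

universe u

theorem inG2 : InList chevG2 := by simp [InList]

/-! ### Fusion -/

section Fusion

variable {K : Type u} [Field K] [CharP K 2]

theorem word_9_6 : Eqv inG2 K [9, 6] [7, 11] := by
  have h := Eqv.word (hD := inG2) (K := K) (w := [1, 0]) (by decide +kernel) (L := [9, 6]) (by decide +kernel)
  have e : ([9, 6] : List ℕ).map (RootWord.wact chevG2 [1, 0]) = [7, 11] := by decide +kernel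
  rwa [e] at h

theorem word_7 : Eqv inG2 K [7] [9] := by
  have h := Eqv.word (hD := inG2) (K := K) (w := [0, 1]) (by decide +kernel) (L := [7]) (by decide +kernel)
  have e : ([7] : List ℕ).map (RootWord.wact chevG2 [0, 1]) = [9] := by decide +kernel
  rwa [e] at h

theorem prod_78 : ((chevG2.commTerms 7 8).map fun c => xG inG2 c.1 ((c.2.1 : ℤ) : K)).prod =
    xG inG2 10 1 * xG inG2 11 1 := by
  have e : chevG2.commTerms 7 8 = [(9, -2, 1, 1), (10, -3, 2, 1), (11, 3, 1, 2)] := by decide +kernel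
  rw [e]
  simp only [List.map_cons, List.map_nil, List.prod_cons, List.prod_nil, mul_one]
  rw [cast_even (K := K) (C := -2) (by norm_num), cast_odd (K := K) (C := -3) (by norm_num),
    cast_odd (K := K) (C := 3) (by norm_num), xG_zero, one_mul]

theorem prod_79 : ((chevG2.commTerms 7 9).map fun c => xG inG2 c.1 ((c.2.1 : ℤ) : K)).prod = xG inG2 10 1 := by
  have e : chevG2.commTerms 7 9 = [(10, 3, 1, 1)] := by decide +kernel
  rw [e]
  simp only [List.map_cons, List.map_nil, List.prod_cons, List.prod_nil, mul_one]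
  rw [cast_odd (K := K) (C := 3) (by norm_num)]

theorem fuse : Eqv inG2 K [7, 11] [7] := by
  have h1 := xs_xr inG2 (K := K) (r := 7) (s := 8) (by decide) (by decide) (by decide) (by decide +kernel)
  have h2 := xs_xr inG2 (K := K) (r := 7) (s := 9) (by decide) (by decide) (by decide) (by decide +kernel)
  rw [prod_78] at h1
  rw [prod_79] at h2
  have c1 := of_com inG2 (K := K) (r := 8) (s := 10) (by decide +kernel)
  have c2 := of_com inG2 (K := K) (r := 8) (s := 11) (by decide +kernel)
  have c3 := of_com inG2 (K := K) (r := 9) (s := 10) (by decide +kernel)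
  have c4 := of_com inG2 (K := K) (r := 9) (s := 11) (by decide +kernel)
  have s8 := xG_sq inG2 (K := K) 8 1
  have s9 := xG_sq inG2 (K := K) 9 1
  have s10 := xG_sq inG2 (K := K) 10 1
  refine Eqv.symm ⟨xG inG2 9 1 * xG inG2 8 1, mul_mem (xG_mem_group inG2 _ _) (xG_mem_group inG2 _ _), ?_⟩
  simp only [PX_cons, PX_nil, mul_one]
  have i8 := xG_inv' inG2 (K := K) 8 1
  have i9 := xG_inv' inG2 (K := K) 9 1
  rw [mul_inv_rev, i8, i9]
  set x7 := xG inG2 7 (1 : K)
  set x8 := xG inG2 8 (1 : K)
  set x9 := xG inG2 9 (1 : K)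
  set x10 := xG inG2 10 (1 : K)
  set x11 := xG inG2 11 (1 : K)
  have e1 : x8 * x7 * x8 = x7 * x10 * x11 := by
    calc x8 * x7 * x8 = x7 * (x8 * x10) * x11 * x8 := by rw [h1]; group
      _ = x7 * x10 * (x8 * x11) * x8 := by rw [c1]; group
      _ = x7 * x10 * x11 * (x8 * x8) := by rw [c2]; group
      _ = _ := by rw [s8, mul_one]
  have e2 : x9 * x7 * x9 = x7 * x10 := by
    calc x9 * x7 * x9 = x7 * (x9 * x10) * x9 := by rw [h2]; group
      _ = x7 * x10 * (x9 * x9) := by rw [c3]; group
      _ = _ := by rw [s9, mul_one]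
  calc x9 * x8 * x7 * (x8 * x9) = x9 * (x8 * x7 * x8) * x9 := by group
    _ = x9 * x7 * x10 * (x9 * x11) := by rw [e1, c4]; group
    _ = x9 * x7 * (x9 * x10) * x11 := by rw [c3]; group
    _ = (x9 * x7 * x9) * x10 * x11 := by group
    _ = x7 * (x10 * x10) * x11 := by rw [e2]; group
    _ = _ := by rw [s10, mul_one]

/-- The orthogonal lists of roots. -/
theorem classify {L : List ℕ} (hL : OL chevG2 L) :
    Eqv inG2 K L [] ∨ Eqv inG2 K L [11] ∨ Eqv inG2 K L [9] := by
  have hc3 : chk chevG2 3 (List.range chevG2.rank) = true := by decide +kernel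
  have hc2 : chk chevG2 2 (List.range chevG2.rank) = true := by decide +kernel
  have hc1 : chk chevG2 1 (List.range chevG2.rank) = true := by decide +kernel
  have e1 : casc chevG2 1 (List.range chevG2.rank) = [[9], [11]] := by decide +kernel
  have e2 : casc chevG2 2 (List.range chevG2.rank) = [[9, 6], [11, 7]] := by decide +kernel
  have e3 : casc chevG2 3 (List.range chevG2.rank) = [] := by decide +kernel
  rcases Nat.lt_or_ge L.length 3 with h | h
  · interval_cases hl : L.length
    · rw [List.length_eq_zero_iff] at hl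
      subst hl
      exact Or.inl (Eqv.refl _)
    · obtain ⟨C, hC, hE, -⟩ := exists_eqv_casc inG2 K hc1 hl hL
      rw [e1] at hC
      simp only [List.mem_cons, List.not_mem_nil, or_false] at hC
      rcases hC with rfl | rfl
      · exact Or.inr (Or.inr hE)
      · exact Or.inr (Or.inl hE)
    · obtain ⟨C, hC, hE, hO⟩ := exists_eqv_casc inG2 K hc2 hl hL
      rw [e2] at hC
      simp only [List.mem_cons, List.not_mem_nil, or_false] at hC
      refine Or.inr (Or.inr ?_)
      rcases hC with rfl | rfl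
      · exact ((hE.trans word_9_6).trans fuse).trans word_7
      · exact ((hE.trans (Eqv.perm hO (List.Perm.swap 7 11 []))).trans fuse).trans word_7
  · exfalso
    have h1 : OL chevG2 (L.take 3) :=
      ⟨fun r hr => hL.lt r (List.mem_of_mem_take hr), hL.orth.sublist (List.take_sublist 3 L)⟩
    obtain ⟨C, hC, -⟩ := exists_eqv_casc inG2 K hc3 (L := L.take 3) (by rw [List.length_take]; omega) h1
    rw [e3] at hC
    exact absurd hC (by simp)

end Fusion

/-! ### Heights -/

/-- the height of a root -/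
def hr (s : ℕ) : ℤ := [-5, -4, -3, -2, -1, -1, 1, 1, 2, 3, 4, 5].getD s 0

/-- the height of a basis vector -/
def ht : chevG2.Idx → ℤ
  | Sum.inl _ => 0
  | Sum.inr s => hr s

section Jump

variable {K : Type u} [Field K]

/-- the matrix raises heights by at least `k` -/
def Jump (A : Matrix chevG2.Idx chevG2.Idx K) (k : ℤ) : Prop := ∀ i j, ht i < ht j + k → A i j = 0

theorem Jump.mul {A B : Matrix chevG2.Idx chevG2.Idx K} {k l : ℤ} (hA : Jump A k) (hB : Jump B l) :
    Jump (A * B) (k + l) := by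
  intro i j h
  rw [Matrix.mul_apply]
  refine Finset.sum_eq_zero fun m _ => ?_
  by_cases h1 : ht i < ht m + k
  · rw [hA i m h1, zero_mul]
  · rw [hB m j (by omega), mul_zero]

theorem Jump.mono {A : Matrix chevG2.Idx chevG2.Idx K} {k l : ℤ} (hA : Jump A k) (h : l ≤ k) : Jump A l :=
  fun i j hij => hA i j (by omega)

theorem Jump.add {A B : Matrix chevG2.Idx chevG2.Idx K} {k : ℤ} (hA : Jump A k) (hB : Jump B k) :
    Jump (A + B) k := fun i j hij => by rw [Matrix.add_apply, hA i j hij, hB i j hij, add_zero]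

theorem jump_one : Jump (1 : Matrix chevG2.Idx chevG2.Idx K) 0 := by
  intro i j h
  rw [Matrix.one_apply_ne]
  rintro rfl
  omega

/-- the table check: the terms of `x_s(t) e_v` for `s` positive have height at least `ht v + ht s` -/
def tabChk : Bool := (List.range 6).all fun s' => (List.range 12).all fun v => (List.range 12).all fun u =>
  (chevG2.chainCoeff (s' + 6) v u).isEmpty || decide (hr v + hr (s' + 6) ≤ hr u)

theorem tabChk_eq : tabChk = true := by decide +kernel

/-- the heights of negatives -/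
theorem hr_neg : ∀ s < 12, hr (chevG2.negIdx.getD s 0) = - hr s := by decide +kernel

theorem hr_pos : ∀ s, 6 ≤ s → s < 12 → 0 < hr s := by
  intro s h h'
  interval_cases s <;> decide

theorem jump_x {s : ℕ} (hs : 6 ≤ s) (hs' : s < 12) (t : K) :
    Jump (chevG2.x K s t - 1) (hr s) := by
  have hs0 : s < chevG2.nroots := hs'
  have hp := hr_pos s hs hs'
  intro i j h
  rw [Matrix.sub_apply, x_of_lt hs0]
  rcases j with j | v
  · rcases i with i | u
    · show (if i = j then (1 : K) else 0) - (1 : Matrix chevG2.Idx chevG2.Idx K) (Sum.inl i) (Sum.inl j) = 0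
      rw [Matrix.one_apply]
      by_cases hij : i = j
      · rw [if_pos hij, if_pos (by rw [hij]), sub_self]
      · rw [if_neg hij, if_neg (fun e => hij (Sum.inl_injective e)), sub_self]
    · show (if u = (⟨s, hs0⟩ : Fin chevG2.nroots) then _ else (0 : K)) -
        (1 : Matrix chevG2.Idx chevG2.Idx K) (Sum.inr u) (Sum.inl j) = 0
      rw [Matrix.one_apply_ne (by simp), sub_zero, if_neg]
      rintro rfl
      change hr s < 0 + hr s at h
      omega
  · have hv0 : (v : ℕ) < 12 := v.2
    by_cases c1 : v = ⟨s, hs0⟩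
    · subst c1
      rcases i with i | u
      · show (if (⟨s, hs0⟩ : Fin chevG2.nroots) = ⟨s, hs0⟩ then (0 : K) else _) -
          (1 : Matrix chevG2.Idx chevG2.Idx K) (Sum.inl i) (Sum.inr _) = 0
        rw [if_pos rfl, Matrix.one_apply_ne (by simp), sub_zero]
      · show (if (⟨s, hs0⟩ : Fin chevG2.nroots) = ⟨s, hs0⟩ then
          (if u = (⟨s, hs0⟩ : Fin chevG2.nroots) then (1 : K) else 0) else _) -
          (1 : Matrix chevG2.Idx chevG2.Idx K) (Sum.inr u) (Sum.inr _) = 0
        rw [if_pos rfl, Matrix.one_apply]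
        by_cases hu : u = ⟨s, hs0⟩
        · rw [if_pos hu, if_pos (by rw [hu]), sub_self]
        · rw [if_neg hu, if_neg (fun e => hu (Sum.inr_injective e)), sub_self]
    · by_cases c2 : (v : ℕ) = chevG2.negIdx.getD s 0
      · have hv : ht (Sum.inr v) = - hr s := by
          show hr v = _
          rw [c2, hr_neg s hs']
        rw [hv] at h
        rcases i with i | u
        · change (0 : ℤ) < _ at h
          omega
        · show (if v = (⟨s, hs0⟩ : Fin chevG2.nroots) then _ else if (v : ℕ) = chevG2.negIdx.getD s 0 then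
            (if u = v then (1 : K) else if u = (⟨s, hs0⟩ : Fin chevG2.nroots) then -(t ^ 2) else 0) else _) -
            (1 : Matrix chevG2.Idx chevG2.Idx K) (Sum.inr u) (Sum.inr v) = 0
          rw [if_neg c1, if_pos c2, Matrix.one_apply]
          by_cases hu : u = v
          · rw [if_pos hu, if_pos (by rw [hu]), sub_self]
          · rw [if_neg hu, if_neg (fun e => hu (Sum.inr_injective e)), sub_zero, if_neg]
            rintro rfl
            change hr s < _ at h
            omega
      · rcases i with i | u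
        · show (if v = (⟨s, hs0⟩ : Fin chevG2.nroots) then _ else if (v : ℕ) = chevG2.negIdx.getD s 0 then _
            else (0 : K)) - (1 : Matrix chevG2.Idx chevG2.Idx K) (Sum.inl i) (Sum.inr v) = 0
          rw [if_neg c1, if_neg c2, Matrix.one_apply_ne (by simp), sub_zero]
        · show (if v = (⟨s, hs0⟩ : Fin chevG2.nroots) then _ else if (v : ℕ) = chevG2.negIdx.getD s 0 then _ else
            ((if u = v then (1 : K) else 0) +
            ((chevG2.chainCoeff s v u).map fun (km : ℕ × ℤ) => ((km.2 : ℤ) : K) * t ^ km.1).sum)) -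
            (1 : Matrix chevG2.Idx chevG2.Idx K) (Sum.inr u) (Sum.inr v) = 0
          have hu0 : (u : ℕ) < 12 := u.2
          have h1 := tabChk_eq
          unfold tabChk at h1
          rw [List.all_eq_true] at h1
          have h2 := h1 (s - 6) (List.mem_range.2 (by omega))
          rw [List.all_eq_true] at h2
          have h3 := h2 v (List.mem_range.2 hv0)
          rw [List.all_eq_true] at h3
          have h4 := h3 u (List.mem_range.2 hu0)
          have e6 : s - 6 + 6 = s := by omega
          rw [e6, Bool.or_eq_true, decide_eq_true_eq] at h4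
          rw [if_neg c1, if_neg c2]
          have h5 : chevG2.chainCoeff s v u = [] := by
            rcases h4 with h4 | h4
            · simpa using h4
            · change hr u < hr v + _ at h
              omega
          rw [h5, Matrix.one_apply]
          by_cases hu : u = v
          · rw [if_pos hu, if_pos (by rw [hu])]; simp
          · rw [if_neg hu, if_neg (fun e => hu (Sum.inr_injective e))]; simp

theorem jump_x' {s : ℕ} (hs : 6 ≤ s) (hs' : s < 12) (t : K) : Jump (chevG2.x K s t) 0 := by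
  have h := ((jump_x hs hs' t).mono (hr_pos s hs hs').le).add jump_one
  rwa [sub_add_cancel] at h

theorem jump_diag {g : GL chevG2.Idx K} (hg : g ∈ chevG2.diagonalSubgroup K) :
    Jump (g : Matrix chevG2.Idx chevG2.Idx K) 0 := by
  obtain ⟨χ, h⟩ := HMatDiagAll.diagonalSubgroup_le_torus (by simp) hg
  intro i j hij
  rw [h, Matrix.diagonal_apply_ne]
  rintro rfl
  omega

variable (K) in
/-- the triangular matrices -/
def tri : Subgroup (GL chevG2.Idx K) where
  carrier := {g | Jump (g : Matrix chevG2.Idx chevG2.Idx K) 0 ∧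
    Jump ((g⁻¹ : GL chevG2.Idx K) : Matrix chevG2.Idx chevG2.Idx K) 0}
  mul_mem' {a b} ha hb := by
    refine ⟨?_, ?_⟩
    · rw [Units.val_mul]
      exact ha.1.mul hb.1
    · rw [mul_inv_rev, Units.val_mul]
      exact hb.2.mul ha.2
  one_mem' := ⟨by rw [Units.val_one]; exact jump_one, by rw [inv_one, Units.val_one]; exact jump_one⟩
  inv_mem' {a} ha := ⟨ha.2, by rw [inv_inv]; exact ha.1⟩

theorem borel_le_tri : chevG2.borelSubgroup K ≤ tri K := by
  refine sup_le ((posUnipotent_le_iff inG2 _).2 fun r hr t => ?_) fun g hg => ⟨jump_diag hg, jump_diag (inv_mem hg)⟩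
  have G := RootComb.good_of_mem inG2
  have h6 := (G.isPosRoot_iff.1 hr).1
  have h6' : 6 ≤ r := h6
  refine ⟨?_, ?_⟩
  · rw [coe_xG]; exact jump_x' h6' hr.1 t
  · rw [xG_inv, coe_xG]; exact jump_x' h6' hr.1 _

/-- conjugation by `B` preserves jumps -/
theorem jump_conj {b g : GL chevG2.Idx K} (hb : b ∈ chevG2.borelSubgroup K) {k : ℤ}
    (h : Jump ((g : Matrix chevG2.Idx chevG2.Idx K) - 1) k) :
    Jump (((b * g * b⁻¹ : GL chevG2.Idx K) : Matrix chevG2.Idx chevG2.Idx K) - 1) k := by
  have h1 : ((b * g * b⁻¹ : GL chevG2.Idx K) : Matrix chevG2.Idx chevG2.Idx K) - 1 =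
      (b : Matrix chevG2.Idx chevG2.Idx K) * ((g : Matrix chevG2.Idx chevG2.Idx K) - 1) *
        ((b⁻¹ : GL chevG2.Idx K) : Matrix chevG2.Idx chevG2.Idx K) := by
    rw [mul_sub, sub_mul, mul_one, Units.val_mul, Units.val_mul, ← Units.val_mul b b⁻¹, mul_inv_cancel, Units.val_one]
  have h2 := borel_le_tri hb
  rw [h1]
  have h3 := (h2.1.mul h).mul h2.2
  rwa [zero_add, add_zero] at h3

end Jump

/-! ### Long roots -/

section Long

variable {K : Type u} [Field K]

/-- the long roots -/
def longs : List ℕ := [0, 1, 5, 6, 10, 11]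

theorem longs_lt : ∀ r ∈ longs, r < 12 := by decide

theorem longs_reflect : ∀ i < 2, ∀ r ∈ longs, chevG2.reflectRoot i r ∈ longs := by decide +kernel

theorem exists_long {n : GL chevG2.Idx K} (hn : n ∈ chevG2.monomialSubgroup K) :
    (∀ r ∈ longs, ∃ s ∈ longs, ConjRoot chevG2 K n r s) ∧ (∀ s ∈ longs, ∃ r ∈ longs, ConjRoot chevG2 K n r s) := by
  rw [monomial_eq inG2 K] at hn
  have hcl : Subgroup.closure {g : GL chevG2.Idx K | ∃ i < chevG2.rank, g = nG inG2 (chevG2.simple i) 1} ⊔
      chevG2.diagonalSubgroup K =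
      Subgroup.closure ({g : GL chevG2.Idx K | ∃ i < chevG2.rank, g = nG inG2 (chevG2.simple i) 1} ∪
        chevG2.diagonalSubgroup K) := by
    rw [Subgroup.closure_union, Subgroup.closure_eq]
  rw [hcl] at hn
  have G := RootComb.good_of_mem inG2
  induction hn using Subgroup.closure_induction with
  | mem x hx =>
    rcases hx with ⟨i, hi, rfl⟩ | hx
    · refine ⟨fun r hr => ⟨_, longs_reflect i hi r hr, conjRoot_nG inG2 hi (longs_lt r hr)⟩, fun s hs =>
        ⟨_, longs_reflect i hi s hs, ?_⟩⟩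
      have h1 := conjRoot_nG (F := K) inG2 hi (longs_lt _ (longs_reflect i hi s hs))
      rwa [G.reflect_reflect hi (longs_lt s hs)] at h1
    · exact ⟨fun r hr => ⟨r, hr, conjRoot_diagonal inG2 hx (longs_lt r hr)⟩, fun r hr =>
        ⟨r, hr, conjRoot_diagonal inG2 hx (longs_lt r hr)⟩⟩
  | one => exact ⟨fun r hr => ⟨r, hr, conjRoot_one r⟩, fun r hr => ⟨r, hr, conjRoot_one r⟩⟩
  | mul x y _ _ hx hy =>
    constructor
    · intro r hr
      obtain ⟨s, hs, h1⟩ := hy.1 r hr
      obtain ⟨v, hv, h2⟩ := hx.1 s hs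
      exact ⟨v, hv, h1.mul h2⟩
    · intro v hv
      obtain ⟨s, hs, h1⟩ := hx.2 v hv
      obtain ⟨r, hr, h2⟩ := hy.2 s hs
      exact ⟨r, hr, h2.mul h1⟩
  | inv x _ hx =>
    constructor
    · intro r hr
      obtain ⟨s, hs, h1⟩ := hx.2 r hr
      exact ⟨s, hs, h1.inv⟩
    · intro r hr
      obtain ⟨s, hs, h1⟩ := hx.1 r hr
      exact ⟨s, hs, h1.inv⟩

/-- for every long root `r` some `A_{p_i, r}` is odd -/
theorem odd_cartan : ∀ r ∈ longs, ∃ i : Fin 2, ((chevG2.cartanSR.getD i.val #[]).getD r 0) % 2 = 1 := by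
  decide +kernel

/-- `x_r(t) - 1` has an entry which raises the height by exactly `hr r` -/
theorem not_jump [CharP K 2] {r : ℕ} (hr' : r ∈ longs) {t : K} (ht0 : t ≠ 0) {k : ℤ} (hk : hr r < k) :
    ¬ Jump (chevG2.x K r t - 1) k := by
  intro h
  obtain ⟨i, hi⟩ := odd_cartan r hr'
  have hlt := longs_lt r hr'
  have hlt' : r < chevG2.nroots := hlt
  have h1 := h (Sum.inr ⟨r, hlt'⟩) (Sum.inl i) (by
    show hr r < 0 + k
    omega)
  rw [Matrix.sub_apply, Matrix.one_apply_ne (by simp), sub_zero, x_of_lt hlt'] at h1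
  change (if (⟨r, hlt'⟩ : Fin chevG2.nroots) = ⟨r, hlt'⟩ then
    - (((chevG2.cartanSR.getD i.val #[]).getD r 0 : ℤ) : K) * t else 0) = 0 at h1
  rw [if_pos rfl, cast_odd hi, neg_one_mul, neg_eq_zero] at h1
  exact ht0 h1

theorem not_jump_nine [CharP K 2] {t : K} (ht0 : t ≠ 0) {k : ℤ} (hk : 3 < k) :
    ¬ Jump (chevG2.x K 9 t - 1) k := by
  intro h
  have hlt' : 9 < chevG2.nroots := by decide
  have h1 := h (Sum.inr ⟨9, hlt'⟩) (Sum.inl (0 : Fin 2)) (by
    show hr 9 < 0 + k
    have : hr 9 = 3 := by decide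
    omega)
  rw [Matrix.sub_apply, Matrix.one_apply_ne (by simp), sub_zero, x_of_lt hlt'] at h1
  have e : (chevG2.cartanSR.getD ((0 : Fin 2) : ℕ) #[]).getD 9 0 % 2 = 1 := by decide +kernel
  change (if (⟨9, hlt'⟩ : Fin chevG2.nroots) = ⟨9, hlt'⟩ then
    - (((chevG2.cartanSR.getD ((0 : Fin 2) : ℕ) #[]).getD 9 0 : ℤ) : K) * t else 0) = 0 at h1
  rw [if_pos rfl, cast_odd e, neg_one_mul, neg_eq_zero] at h1
  exact ht0 h1

theorem conjRoot_borel {b : GL chevG2.Idx K} (hb : b ∈ chevG2.borelSubgroup K) : ConjRoot chevG2 K b 11 11 := by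
  let S : Subgroup (GL chevG2.Idx K) :=
    { carrier := {g | ConjRoot chevG2 K g 11 11}
      mul_mem' := fun ha hb => ConjRoot.mul hb ha
      one_mem' := conjRoot_one 11
      inv_mem' := fun ha => ConjRoot.inv ha }
  have h11 : 11 < chevG2.nroots := by decide
  have hS : chevG2.borelSubgroup K ≤ S := by
    refine sup_le ((posUnipotent_le_iff inG2 _).2 fun s hs v => ?_) fun g hg => conjRoot_diagonal inG2 hg h11
    have G := RootComb.good_of_mem inG2
    have h6 := (G.isPosRoot_iff.1 hs).1
    have h6' : 6 ≤ s := h6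
    have h12 : s < 12 := hs.1
    have key : ∀ t : K, xG inG2 s v * xG inG2 11 t * (xG inG2 s v)⁻¹ = xG inG2 11 t := by
      intro t
      by_cases hs11 : s = 11
      · subst hs11
        rw [xG_add, add_comm, ← xG_add, mul_inv_cancel_right]
      · have hc : ∀ s, 6 ≤ s → s < 12 → s ≠ 11 → chevG2.commTerms 11 s = [] ∧ s ≠ chevG2.neg 11 := by
          intro s h1 h2 h3
          interval_cases s <;> first | exact absurd rfl h3 | decide +kernel
        obtain ⟨h1, h2⟩ := hc s h6' h12 hs11
        have h3 := Cfsg.Agent.H82.RootCent.commute_of (F := K) inG2 h11 hs.1 hs11 h2 (by rw [h1]; simp) t v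
        rw [h3, mul_inv_cancel_right]
    exact conjRoot_of inG2 (fun t => ⟨t, key t⟩) fun t => ⟨t, key t⟩
  exact hS hb

/-- **A long and a short root element are not conjugate.** -/
theorem not_conj [CharP K 2] (h : GL chevG2.Idx K) (hh : h ∈ chevG2.group K) :
    h * xG inG2 11 1 * h⁻¹ ≠ xG inG2 9 (1 : K) := by
  intro he
  obtain ⟨b, hb, n, hn, b', hb', e⟩ := bruhat (F := K) inG2 ⟨h, hh⟩
  have e' : h = (b : GL chevG2.Idx K) * (n : GL chevG2.Idx K) * (b' : GL chevG2.Idx K) := congrArg Subtype.val e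
  have hb1 : (b : GL chevG2.Idx K) ∈ chevG2.borelSubgroup K := hb
  have hb2 : (b' : GL chevG2.Idx K) ∈ chevG2.borelSubgroup K := hb'
  have hn1 : (n : GL chevG2.Idx K) ∈ chevG2.monomialSubgroup K := hn
  clear hb hb' hn e
  generalize (b : GL chevG2.Idx K) = b at *
  generalize (b' : GL chevG2.Idx K) = b' at *
  generalize (n : GL chevG2.Idx K) = n at *
  subst e'
  obtain ⟨r, hr', hrc⟩ := (exists_long hn1).1 11 (by decide)
  have h1 := (conjRoot_borel hb2).mul hrc
  have h2 : (n * b') * xG inG2 11 1 * (n * b')⁻¹ ∈ chevG2.rootSubgroup K r := by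
    rw [← h1]
    exact ⟨xG inG2 11 1, xG_mem_rootSubgroup inG2 11 1, rfl⟩
  obtain ⟨c, hc⟩ := (mem_rootSubgroup_iff inG2 r _).1 h2
  have hc0 : c ≠ 0 := by
    rintro rfl
    rw [xG_zero, mul_inv_eq_one] at hc
    have h3 : xG inG2 11 (1 : K) = 1 := mul_left_cancel (hc.trans (mul_one _).symm)
    have h4 := xe_eq_one (F := K) inG2 (r := 11) (by decide) (t := 1) (Subtype.ext h3)
    exact one_ne_zero h4
  have h3 : b * xG inG2 r c * b⁻¹ = xG inG2 9 1 := by
    rw [← hc, ← he]; group
  have h4 : b⁻¹ * xG inG2 9 1 * b⁻¹⁻¹ = xG inG2 r c := by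
    rw [← h3]; group
  have h5 := jump_conj (inv_mem hb1) (g := xG inG2 9 (1 : K)) (k := 3)
    (by rw [coe_xG]; exact jump_x (by norm_num) (by norm_num) 1)
  rw [h4, coe_xG] at h5
  have h6 : 3 ≤ Cfsg.Agent.H70.G2Even.hr r := by
    by_contra hlt
    exact not_jump hr' hc0 (not_le.1 hlt) h5
  have h7 : ∀ r ∈ longs, 3 ≤ Cfsg.Agent.H70.G2Even.hr r → 6 ≤ r ∧ 4 ≤ Cfsg.Agent.H70.G2Even.hr r := by decide
  obtain ⟨h8, h9⟩ := h7 r hr' h6
  have h10 := jump_conj hb1 (g := xG inG2 r c) (k := 4)
    (by rw [coe_xG]; exact (jump_x h8 (longs_lt r hr') c).mono h9)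
  rw [h3, coe_xG] at h10
  exact not_jump_nine one_ne_zero (by norm_num) h10

end Long

end Cfsg.Agent.H70.G2Even
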