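import Cfsg.Agent.H70.HeCoat
import Cfsg.Agent.H436.HeFive

/-!
# Row `He` of S5906/S5907 (helper70)

The normalizers of the Sylow 5-, 7- and 17-subgroups and the two classes `2^6:3.S6`.
-/

set_option autoImplicit false
set_option maxRecDepth 100000

namespace Cfsg.Agent.H70.RowHe

open Subgroup Cfsg.Agent.OrdDiv Cfsg.Agent.H940 Cfsg.Agent.H940.Eng Cfsg.Agent.H940.Eng.D
open Cfsg.Agent.H940.MaxCls Cfsg.Agent.H70.HeCoat
open Cfsg.Spor.He (Gen)
open Cfsg.Agent.SporadicB.HePerm Cfsg.Agent.FixBN.HeStab Cfsg.Agent.H436 Cfsg.Agent.KFacts.He.Lv Cfsg.Agent.CpAutHe.Cnt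
  Cfsg.Agent.CpAutHe.Bound

/-! ### Elements of order 5 -/

def gW : List Gen := [.b, .a, .b, .e, .d, .c, .d, .e]

theorem chk2 : chkB (gW ++ HeFive.X) (pw HeFive.X 2 ++ gW) = true := by decide +kernel

theorem conj2 : wd gW * wd HeFive.X * (wd gW)⁻¹ = wd HeFive.X ^ 2 := by
  have h := eq_of_chkB chk2
  rw [wd_append, wd_append, wd_pw] at h
  rw [h, mul_inv_cancel_right]

theorem isConj_sq : IsConj (wd HeFive.X) (wd HeFive.X ^ 2) := isConj_iff.2 ⟨_, conj2⟩

theorem isConj_pow {a b : G} (h : IsConj a b) (n : ℕ) : IsConj (a ^ n) (b ^ n) := by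
  obtain ⟨c, hc⟩ := isConj_iff.1 h
  exact isConj_iff.2 ⟨c, by rw [← hc, conj_pow]⟩

/-- the elements of order 5 are conjugate -/
theorem conj_five {w : G} (hw : orderOf w = 5) : IsConj (wd HeFive.X) w := by
  obtain ⟨u, hu⟩ := HeFive.exists_conj hw
  have h1 : IsConj w (u * w * u⁻¹) := isConj_iff.2 ⟨u, rfl⟩
  have ho : orderOf (u * w * u⁻¹) = 5 := by rw [CpAutHe.Seven.orderOf_conj', hw]
  have h2 : ∃ k : ℕ, k < 5 ∧ wd HeFive.X ^ k = u * w * u⁻¹ := by
    rw [mem_zpowers_iff] at hu
    obtain ⟨k, hk⟩ := hu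
    refine ⟨(k % 5).toNat, by omega, ?_⟩
    rw [← hk, ← zpow_natCast, Int.toNat_of_nonneg (Int.emod_nonneg _ (by norm_num))]
    have h3 := HeFive.orderX
    rw [show ((5 : ℤ)) = (orderOf (wd HeFive.X) : ℤ) by rw [h3]; rfl, zpow_mod_orderOf]
  obtain ⟨k, hk, he⟩ := h2
  refine IsConj.trans ?_ h1.symm
  rw [← he]
  have s2 := isConj_sq
  have s4 : IsConj (wd HeFive.X) (wd HeFive.X ^ 4) := s2.trans (by
    have := isConj_pow s2 2
    rwa [← pow_mul] at this)
  have s3 : IsConj (wd HeFive.X) (wd HeFive.X ^ 3) := s4.trans (by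
    have := isConj_pow s2 4
    rw [← pow_mul] at this
    have e : wd HeFive.X ^ (2 * 4) = wd HeFive.X ^ 3 := by
      rw [show 2 * 4 = 5 + 3 by norm_num, pow_add, HeFive.powX, one_mul]
    rwa [e] at this)
  interval_cases k
  · exfalso
    rw [pow_zero] at he
    rw [← he, orderOf_one] at ho
    exact absurd ho (by norm_num)
  · rw [pow_one]
  · exact s2
  · exact s3
  · exact s4

/-- a Sylow 5-subgroup with its normalizer -/
theorem norm_five : ∃ P : Sylow 5 G, 600 ∣ Nat.card (normalizer ((P : Subgroup G) : Set G)) := by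
  have := finG
  have h5 : Fact (Nat.Prime 5) := ⟨by norm_num⟩
  obtain ⟨P, hP⟩ := HeFive.isP.exists_le_sylow
  have hPc : Nat.card ↥(P : Subgroup G) = 25 := by
    rw [P.card_eq_multiplicity, cardG]
    decide +kernel
  have hPE : HeFive.E = P := Subgroup.eq_of_le_of_card_ge hP (by rw [hPc, HeFive.card_E])
  refine ⟨P, ?_⟩
  set N : Subgroup G := normalizer ((P : Subgroup G) : Set G) with hN
  have hmc : IsMulCommutative (P : Subgroup G) :=
    IsPGroup.isMulCommutative_of_card_eq_prime_sq (p := 5) (by rw [hPc]; norm_num)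
  have hXP : wd HeFive.X ∈ (P : Subgroup G) := hPE ▸ HeFive.mem_EX
  have hpow : ∀ y ∈ (P : Subgroup G), y ≠ 1 → orderOf y = 5 := by
    intro y hy hy1
    rw [← hPE] at hy
    obtain ⟨i, j, rfl⟩ := HeFive.exists_pow HeFive.powX HeFive.powY HeFive.commXY hy
    refine orderOf_eq_prime ?_ hy1
    rw [((show Commute (wd HeFive.X) (wd HeFive.Y) from HeFive.commXY).pow_pow i j).mul_pow, ← pow_mul, ← pow_mul,
      mul_comm i, mul_comm j, pow_mul, pow_mul, HeFive.powX, HeFive.powY, one_pow, one_pow, one_mul]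
  have hne : wd HeFive.X ≠ 1 := by
    intro h
    have := HeFive.orderX
    rw [h, orderOf_one] at this
    exact absurd this (by norm_num)
  have hfus : ∀ y ∈ (P : Subgroup G), y ≠ 1 → ∃ n ∈ N, n * wd HeFive.X * n⁻¹ = y := by
    intro y hy hy1
    obtain ⟨c, hc⟩ := isConj_iff.1 (conj_five (hpow y hy hy1))
    obtain ⟨n, hn, he⟩ := P.conj_eq_normalizer_conj_of_mem (wd HeFive.X) c⁻¹ hXP (by rw [inv_inv, hc]; exact hy)
    refine ⟨n⁻¹, inv_mem hn, ?_⟩
    rw [inv_inv, ← he, inv_inv, hc]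
  let act : MulAction N G := MulAction.compHom G ((ConjAct.toConjAct : G ≃* ConjAct G).toMonoidHom.comp N.subtype)
  have hsm : ∀ (n : N) (g : G), act.smul n g = (n : G) * g * (n : G)⁻¹ := fun n g => ConjAct.smul_def _ _
  have horb : @MulAction.orbit N G act.toSMul (wd HeFive.X) = ((P : Subgroup G) : Set G) \ {1} := by
    ext y
    constructor
    · rintro ⟨n, rfl⟩
      refine ⟨?_, ?_⟩
      · show act.smul n _ ∈ (P : Subgroup G)
        rw [hsm]
        exact (mem_normalizer_iff.1 n.2 _).1 hXP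
      · intro h
        have h1 : act.smul n (wd HeFive.X) = 1 := h
        rw [hsm] at h1
        apply hne
        calc wd HeFive.X = (n : G)⁻¹ * ((n : G) * wd HeFive.X * (n : G)⁻¹) * n := by group
          _ = 1 := by rw [h1]; group
    · rintro ⟨hy, hy1⟩
      obtain ⟨n, hn, he⟩ := hfus y hy hy1
      exact ⟨⟨n, hn⟩, by
        show act.smul ⟨n, hn⟩ (wd HeFive.X) = y
        rw [hsm]
        exact he⟩
  have hidx := @MulAction.index_stabilizer N G _ act (wd HeFive.X)
  rw [horb, Set.ncard_sdiff_singleton_of_mem (one_mem (P : Subgroup G))] at hidx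
  have h24 : 24 ∣ Nat.card N := by
    have h1 : Set.ncard ((P : Subgroup G) : Set G) = 25 := hPc
    rw [h1] at hidx
    have h2 := (@MulAction.stabilizer N G _ act (wd HeFive.X)).index_dvd_card
    rw [hidx] at h2
    exact h2
  have h25 : 25 ∣ Nat.card N := by
    rw [← hPc]
    exact card_dvd_of_le le_normalizer
  exact Nat.Coprime.mul_dvd_of_dvd_of_dvd (by norm_num : Nat.Coprime 24 25) h24 h25

/-! ### Local data at 17 -/

theorem simpleG : IsSimpleGroup G := KFacts.He.Cent.simpleHe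

theorem not_comm : ¬ ∀ a b : G, a * b = b * a := fun h => QTUnique.He.noncomm ⟨⟨h⟩⟩

theorem cent17 {R : Subgroup G} (hR : Nat.card R = 17) : Nat.card (centralizer (R : Set G)) ∣ prodl [(17, 1)] := by
  have := finG
  have h17 : Fact (Nat.Prime 17) := ⟨by norm_num⟩
  obtain ⟨x, hx⟩ := exists_prime_orderOf_dvd_card' 17 (hR ▸ dvd_rfl : 17 ∣ Nat.card R)
  have h1 := HeFive.cent17 (x : G) (by rw [Subgroup.orderOf_coe, hx])
  have h2 : centralizer (R : Set G) ≤ centralizer {(x : G)} :=
    centralizer_le (Set.singleton_subset_iff.2 x.2)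
  exact (card_dvd_of_le h2).trans h1

def loc : List LD := [⟨17, 17, [(2, 3), (17, 1)]⟩]

theorem cn17 {R : Subgroup G} (hR : Nat.card R = 17) : Nat.card (centralizer (R : Set G)) = 17 ∧
    Nat.card (normalizer (R : Set G)) = 136 := by
  have := finG
  have := simpleG
  exact cn_exact not_comm cardG (by decide +kernel) (by decide +kernel) (by decide +kernel) hR (cent17 hR)
    (by decide +kernel) hR

theorem ctx (B : Base) : Ctx G l_he n_he o_he loc where
  fin := finG
  simple := simpleG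
  card := cardG
  val := v_he
  nodup := nd_he
  ords := ords_he B
  loc := by
    intro ld hld
    simp only [loc, List.mem_cons, List.not_mem_nil, or_false] at hld
    rw [hld]
    exact loc_of_eq cardG (by decide +kernel) (by decide +kernel) (by decide +kernel) fun R hR => by
      obtain ⟨h1, h2⟩ := cn17 hR
      rw [h1, h2]; decide

theorem norm_ne_top {p : ℕ} (hp : p.Prime) (P : Sylow p G) (h : p ∣ n_he) (h' : Nat.card (P : Subgroup G) ≠ n_he) :
    normalizer ((P : Subgroup G) : Set G) ≠ ⊤ := by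
  have := finG
  have := simpleG
  have := Fact.mk hp
  intro ht
  have hn : (P : Subgroup G).Normal := normalizer_eq_top_iff.1 ht
  rcases hn.eq_bot_or_eq_top with h1 | h1
  · have h2 := P.dvd_card_of_dvd_card (cardG ▸ h)
    rw [h1, card_bot] at h2
    exact hp.one_lt.ne' (Nat.dvd_one.1 h2)
  · apply h'
    rw [h1, card_top, cardG]

/-- the normalizers of the Sylow subgroups for 5, 7, 17 -/
theorem triple (B : Base) : ∃ (P5 : Sylow 5 G) (P7 : Sylow 7 G) (P17 : Sylow 17 G),
    Nat.card (P5 : Subgroup G) = 25 ∧ Nat.card (P7 : Subgroup G) = 343 ∧ Nat.card (P17 : Subgroup G) = 17 ∧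
    600 ∣ Nat.card (normalizer ((P5 : Subgroup G) : Set G)) ∧
    343 ∣ Nat.card (normalizer ((P7 : Subgroup G) : Set G)) ∧
    136 ∣ Nat.card (normalizer ((P17 : Subgroup G) : Set G)) ∧
    normalizer ((P5 : Subgroup G) : Set G) ≠ ⊤ ∧ normalizer ((P7 : Subgroup G) : Set G) ≠ ⊤ ∧
    normalizer ((P17 : Subgroup G) : Set G) ≠ ⊤ ∧
    Apart (normalizer ((P17 : Subgroup G) : Set G)) (normalizer ((P5 : Subgroup G) : Set G)) ∧
    Apart (normalizer ((P17 : Subgroup G) : Set G)) (normalizer ((P7 : Subgroup G) : Set G)) ∧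
    Apart (normalizer ((P5 : Subgroup G) : Set G)) (normalizer ((P7 : Subgroup G) : Set G)) := by
  have c := ctx B
  have := c.fin
  have := c.simple
  obtain ⟨P5, h5⟩ := norm_five
  have p5 : Fact (Nat.Prime 5) := ⟨by norm_num⟩
  have p7 : Fact (Nat.Prime 7) := ⟨by norm_num⟩
  have p17 : Fact (Nat.Prime 17) := ⟨by norm_num⟩
  obtain ⟨P7⟩ : Nonempty (Sylow 7 G) := inferInstance
  obtain ⟨P17⟩ : Nonempty (Sylow 17 G) := inferInstance
  have c5 : Nat.card (P5 : Subgroup G) = 25 := by rw [P5.card_eq_multiplicity, cardG]; decide +kernel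
  have c7 : Nat.card (P7 : Subgroup G) = 343 := by rw [P7.card_eq_multiplicity, cardG]; decide +kernel
  have c17 : Nat.card (P17 : Subgroup G) = 17 := by rw [P17.card_eq_multiplicity, cardG]; decide +kernel
  have h7 : 343 ∣ Nat.card (normalizer ((P7 : Subgroup G) : Set G)) := by
    rw [← c7]
    exact card_dvd_of_le le_normalizer
  have h17 : 136 ∣ Nat.card (normalizer ((P17 : Subgroup G) : Set G)) := (cn17 c17).2.symm.dvd
  have n5 := norm_ne_top p5.out P5 (by decide +kernel) (by rw [c5]; decide +kernel)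
  have n7 := norm_ne_top p7.out P7 (by decide +kernel) (by rw [c7]; decide +kernel)
  have n17 := norm_ne_top p17.out P17 (by decide +kernel) (by rw [c17]; decide +kernel)
  have f17 : ∀ p ∈ [17], Full p (normalizer ((P17 : Subgroup G) : Set G)) := by
    intro p hp; rw [List.mem_singleton.1 hp]
    exact full_normalizer p17.out P17
  have f5 : ∀ p ∈ [5], Full p (normalizer ((P5 : Subgroup G) : Set G)) := by
    intro p hp; rw [List.mem_singleton.1 hp]
    exact full_normalizer p5.out P5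
  have f7 : ∀ p ∈ [7], Full p (normalizer ((P7 : Subgroup G) : Set G)) := by
    intro p hp; rw [List.mem_singleton.1 hp]
    exact full_normalizer p7.out P7
  exact ⟨P5, P7, P17, c5, c7, c17, h5, h7, h17, n5, n7, n17,
    c.apart h17 h5 [(2, 7), (3, 2), (7, 3)] _ _ 60 f17 f5 (by decide +kernel),
    c.apart h17 h7 [(2, 7), (3, 3), (5, 2)] _ _ 60 f17 f7 (by decide +kernel),
    c.apart h5 h7 [(2, 7), (3, 2), (17, 1)] _ _ 60 f5 f7 (by decide +kernel)⟩

/-- **the row `He`** -/
theorem five (B : Base) : Sep 5 G := by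
  obtain ⟨P5, P7, P17, -, -, -, h5, h7, h17, n5, n7, n17, a, b, c⟩ := triple B
  have a1 := coatom1 B
  have a2 := coatom2 B
  exact sep_five n17 n5 n7 a1.1 a2.1 a b
    (apart_of_coatom_dvd a1 h17 (by rw [HeCoat.card1]; decide)).symm
    (apart_of_coatom_dvd a2 h17 (by rw [HeCoat.card2]; decide)).symm
    c
    (apart_of_coatom_dvd a1 h5 (by rw [HeCoat.card1]; decide)).symm
    (apart_of_coatom_dvd a2 h5 (by rw [HeCoat.card2]; decide)).symm
    (apart_of_coatom_dvd a1 h7 (by rw [HeCoat.card1]; decide)).symm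
    (apart_of_coatom_dvd a2 h7 (by rw [HeCoat.card2]; decide)).symm
    (apart12 B)

end Cfsg.Agent.H70.RowHe
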