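import Cfsg.Agent.H70.HeFrameDat

/-!
# Two classes of maximal subgroups `2^6:3.S6` of the Held group (helper70)
-/

set_option autoImplicit false

namespace Cfsg.Agent.H70.HeCoat

open Subgroup Cfsg Cfsg.Agent.SporadicRecognition.HeldModel Cfsg.Agent.H6.HeOver Cfsg.Agent.KFacts.He.Hyp
  Cfsg.Agent.H6.HexW Cfsg.Agent.H70.HeMax Cfsg.Agent.H70.HeFrameDat Cfsg.Agent.H940 Cfsg.Agent.H940.Eng
  Cfsg.Agent.KFacts.TwoSix.U Cfsg.Agent.KFacts.TwoSix.Facts

abbrev G : Type := Cfsg.Spor.He

theorem cardG : Nat.card G = Eng.D.n_he := KFacts.He.Classes.card_he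
theorem finG : Finite G := Nat.finite_of_card_ne_zero (by rw [cardG]; decide +kernel)

theorem exists_T : ∃ T : Sylow 2 G, (T : Subgroup G) = img iota T0 := by
  have := finG
  exact exists_sylow hyp

/-- the two subgroups of order 64 -/
noncomputable abbrev A1 : Subgroup G := img iota V1
noncomputable abbrev A2 : Subgroup G := img iota V2

theorem dat1 {T : Sylow 2 G} (hT : (T : Subgroup G) = img iota T0) : Dat A1 T J := by
  have := finG
  exact dat H6.HeFrames.frame1 (by rw [hT]; exact img_mono V1_le_T0) (norm_of_weak hyp hT)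

theorem dat2 {T : Sylow 2 G} (hT : (T : Subgroup G) = img iota T0) : Dat A2 T J := by
  have := finG
  refine dat H6.HeFrames.frame2 (by rw [hT]; exact img_mono V2_le_T0) ?_
  have h1 := norm_of_weak hyp.tau (T := T) (by rw [hT, img_tau_T0])
  rw [img_tau_V1] at h1
  exact h1

theorem card1 : Nat.card (normalizer (A1 : Set G)) = 138240 := card_norm H6.HeFrames.frame1
theorem card2 : Nat.card (normalizer (A2 : Set G)) = 138240 := card_norm H6.HeFrames.frame2

theorem over_le {T : Sylow 2 G} (hT : (T : Subgroup G) = img iota T0) (H : Subgroup G) (hTH : (T : Subgroup G) ≤ H)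
    (hH : Cfsg.pCore 2 H ≠ ⊥) : Nat.card H ≤ 138240 := by
  have := finG
  rcases H6.HeWords.ctx.over hT hTH hH with h | h | h
  · refine (Nat.le_of_dvd Nat.card_pos (card_dvd_of_le h)).trans ?_
    rw [KFacts.He.Cent.card_cent]
    norm_num
  · exact (Nat.le_of_dvd Nat.card_pos (card_dvd_of_le h)).trans card1.le
  · exact (Nat.le_of_dvd Nat.card_pos (card_dvd_of_le h)).trans card2.le

/-- **the first class of maximal subgroups `2^6:3.S6`** -/
theorem coatom1 (B : Base) : IsCoatom (normalizer (A1 : Set G)) := by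
  have := finG
  obtain ⟨T, hT⟩ := exists_T
  exact coatom_of B cardG (dat1 hT) card1 (over_le hT)

/-- **the second class of maximal subgroups `2^6:3.S6`** -/
theorem coatom2 (B : Base) : IsCoatom (normalizer (A2 : Set G)) := by
  have := finG
  obtain ⟨T, hT⟩ := exists_T
  exact coatom_of B cardG (dat2 hT) card2 (over_le hT)

theorem x02_V1 : x 0 2 ∈ V1 := by rw [mem_V1_iff, H6.HeElt.cdx]; decide +kernel

theorem A_ne : A1 ≠ A2 := by
  intro h
  have h2 : iota ⟨x 0 2, V1_le_CC x02_V1⟩ ∈ A1 := (ι_mem_img hyp).2 x02_V1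
  rw [h, ι_mem_img hyp, mem_V2_iff, H6.HeElt.cdx] at h2
  exact absurd h2 (by decide +kernel)

/-- the two classes are different -/
theorem not_conj (g : G) : ∃ x ∈ normalizer (A2 : Set G), g * x * g⁻¹ ∉ normalizer (A1 : Set G) := by
  have := finG
  obtain ⟨T, hT⟩ := exists_T
  by_contra hcon
  push Not at hcon
  have d1 := dat1 hT
  have d2 := dat2 hT
  have hX : (normalizer (A2 : Set G)).map (MulAut.conj g).toMonoidHom = normalizer (A1 : Set G) := by
    apply eq_of_le_of_card_ge
    · rintro _ ⟨x, hx, rfl⟩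
      exact hcon x hx
    · rw [card_map_of_injective (MulAut.conj g).injective, card1, card2]
  set W : Subgroup G := A2.map (MulAut.conj g).toMonoidHom with hW
  have hWc : Nat.card W = 64 := by
    rw [hW, card_map_of_injective (MulAut.conj g).injective]
    exact card_V H6.HeFrames.frame2
  have hWn : ∀ x ∈ normalizer (A1 : Set G), ∀ w ∈ W, x * w * x⁻¹ ∈ W := by
    intro x hx w hw
    rw [← hX] at hx
    obtain ⟨y, hy, rfl⟩ := hx
    obtain ⟨v, hv, rfl⟩ := hw
    refine ⟨y * v * y⁻¹, (mem_normalizer_iff.1 hy v).1 hv, ?_⟩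
    show g * (y * v * y⁻¹) * g⁻¹ = (g * y * g⁻¹) * (g * v * g⁻¹) * (g * y * g⁻¹)⁻¹
    group
  have hWX : W ≤ normalizer (A1 : Set G) := by
    rw [← hX]
    exact map_mono le_normalizer
  have hWA : W = A1 := by
    rcases d1.irr (A1 ⊓ W) inf_le_left (fun x hx u hu =>
      mem_inf.2 ⟨(mem_normalizer_iff.1 hx u).1 (mem_inf.1 hu).1, hWn x hx u (mem_inf.1 hu).2⟩) with h | h
    · exfalso
      have h1 : W ≤ A1 := by
        intro w hw
        apply d1.cen
        intro v hv
        have h2 : w * v * w⁻¹ * v⁻¹ ∈ A1 ⊓ W := by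
          refine mem_inf.2 ⟨mul_mem ((mem_normalizer_iff.1 (hWX hw) v).1 hv) (inv_mem hv), ?_⟩
          have h3 := hWn v (le_normalizer hv) w⁻¹ (inv_mem hw)
          have h4 := mul_mem hw h3
          have h5 : w * (v * w⁻¹ * v⁻¹) = w * v * w⁻¹ * v⁻¹ := by group
          rwa [h5] at h4
        rw [h, mem_bot, mul_inv_eq_one] at h2
        exact mul_inv_eq_iff_eq_mul.1 h2
      rw [inf_eq_right.2 h1] at h
      rw [h, card_bot] at hWc
      exact absurd hWc (by norm_num)
    · symm
      apply eq_of_le_of_card_ge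
      · exact inf_eq_left.1 h
      · rw [hWc, card_V H6.HeFrames.frame1]
  have h1 := d2.weak g fun v hv => by
    apply d1.le
    rw [← hWA]
    exact ⟨v, hv, rfl⟩
  have h2 : W = A2 := by
    apply eq_of_le_of_card_ge
    · rintro _ ⟨v, hv, rfl⟩
      exact (mem_normalizer_iff.1 h1 v).1 hv
    · rw [hWc, card_V H6.HeFrames.frame2]
  exact A_ne (hWA.symm.trans h2)

theorem apart12 (B : Base) : MaxCls.Apart (normalizer (A1 : Set G)) (normalizer (A2 : Set G)) :=
  MaxCls.apart_of_coatom (coatom1 B) not_conj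

end Cfsg.Agent.H70.HeCoat
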