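import Cfsg.Agent.H301.SY.Spor
import Cfsg.Agent.H587.NR.He
import Cfsg.Agent.H436.HeFive

/-!
# S3846, the row of the Held group (helper70)

For every element `x` of order 5, 7, 17 there is a proper subgroup `M` (the centralizer of an element, or the stabilizer of a
point) and `g ∈ M` such that `x ∈ M` and `⟨x, g x g⁻¹⟩` is not solvable; so `RE x` is false.
-/

set_option autoImplicit false
set_option maxRecDepth 100000

namespace Cfsg.Agent.H70.NoEHe

open Subgroup Cfsg
open Cfsg.Spor.He (Gen)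
open Cfsg.Agent.SporadicB.HePerm (act wd phi phi_wd_apply)
open Cfsg.Agent.FixBN.HeStab Cfsg.Agent.KFacts.He.Lv Cfsg.Agent.CpAutHe.Cnt
open Cfsg.Agent.H459.Rad Cfsg.Agent.H301.SY Cfsg.Agent.H587.NR.He

abbrev G : Type := Cfsg.Spor.He

/-- the certificate -/
def cert (X g : List Gen) (l : List ℕ) (d m n k : ℕ) : Bool := certB X g l d m n k (pw (ex X g l) d)

theorem not_re {M : Subgroup G} (hM : M ≠ ⊤) {X g : List Gen} (hX : wd X ∈ M) (hg : wd g ∈ M) {l : List ℕ}
    {d m n k : ℕ} (h : cert X g l d m n k = true) : ¬ RE (wd X) := by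
  intro hR
  have h0 := hR M hM hX
  have hs : Group.IsSolvable ↥(closure ({wd X, wd g * wd X * (wd g)⁻¹} : Set G)) := by
    refine H587.NR.solvable_le ?_ (radIn_solvable M)
    rw [closure_le]
    rintro y (rfl | rfl)
    · exact h0
    · exact radIn_conj_mem hg h0
  unfold cert certB at h
  simp only [Bool.and_eq_true] at h
  obtain ⟨⟨⟨-, h2⟩, h3, h4⟩, ⟨h5, h6⟩, h7, h8⟩ := h
  have e2 := eq_of_chkB h2
  have e3 := eq_of_chkB h3
  have e4 := eq_of_chkB h4
  rw [wd_pw, wd_nil] at e2 e3 e4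
  rw [wd_append] at e4
  have e8 : wd X ≠ 1 := by
    rw [← wd_nil]
    refine ne_of_chkB ?_
    simpa using h8
  refine e8 (H587.NR.eq_one_of_triple hs (subset_closure (by simp)) ?_ e2 e3 e4 (Nat.eq_of_beq_eq_true h5)
    (Nat.eq_of_beq_eq_true h6) (Nat.eq_of_beq_eq_true h7))
  rw [wd_pw]
  exact pow_mem (ex_mem X g l) d

/-- the group centralized by `u` -/
theorem not_re_cent {u X g : List Gen} (hu : chkB u [] = false) (hX : chkB (u ++ X) (X ++ u) = true)
    (hg : chkB (u ++ g) (g ++ u) = true) {l : List ℕ} {d m n k : ℕ} (h : cert X g l d m n k = true) : ¬ RE (wd X) := by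
  have key : ∀ {w : List Gen}, chkB (u ++ w) (w ++ u) = true → wd w ∈ centralizer ({wd u} : Set G) := by
    intro w hw
    have h1 := eq_of_chkB hw
    rw [wd_append, wd_append] at h1
    rw [mem_centralizer_singleton_iff]
    exact h1.symm
  refine not_re (M := centralizer ({wd u} : Set G)) ?_ (key hX) (key hg) h
  intro ht
  have h1 : wd u ∈ center G := by
    rw [mem_center_iff]
    intro g
    exact mem_centralizer_singleton_iff.1 (ht ▸ mem_top g)
  rw [center_bot, mem_bot, ← wd_nil] at h1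
  exact ne_of_chkB hu h1

/-- elements of order dividing `p` with `RE` -/
def S (p : ℕ) (x : G) : Prop := x ^ p = 1 ∧ RE x

theorem S.conj {p : ℕ} {x : G} (h : S p x) (u : G) : S p (u * x * u⁻¹) := by
  have := H436.HeFive.finite_he
  refine ⟨?_, h.2.map (MulAut.conj u)⟩
  rw [conj_pow, h.1, mul_one, mul_inv_cancel]

/-- `x ^ k` and `x` generate the same group if `x ^ (k * k') = x` -/
theorem S.of_pow {p : ℕ} {x : G} {k k' : ℕ} (h : S p (x ^ k)) (hk : x ^ (k * k') = x) : S p x := by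
  have hx : x ∈ zpowers (x ^ k) := ⟨(k' : ℤ), by
    show (x ^ k) ^ (k' : ℤ) = x
    rw [zpow_natCast, ← pow_mul, hk]⟩
  refine ⟨?_, fun M hM hxM => ?_⟩
  · obtain ⟨j, hj⟩ := hx
    have hj' : (x ^ k) ^ j = x := hj
    rw [← hj', ← zpow_natCast, ← zpow_mul, mul_comm, zpow_mul, zpow_natCast, h.1, one_zpow]
  · have h1 := h.2 M hM (pow_mem hxM k)
    exact zpowers_le.2 h1 hx

theorem S.pow {p : ℕ} (hp : p.Prime) {x : G} (h : S p x) (k : ℕ) : S p (x ^ k) := by
  refine ⟨by rw [← pow_mul, mul_comm, pow_mul, h.1, one_pow], fun M hM hxM => ?_⟩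
  by_cases hk : p ∣ k
  · obtain ⟨c, rfl⟩ := hk
    rw [pow_mul, h.1, one_pow]
    exact one_mem _
  · have hc : Nat.Coprime k (orderOf x) := by
      refine Nat.Coprime.coprime_dvd_right (orderOf_dvd_of_pow_eq_one h.1) ?_
      exact ((Nat.Prime.coprime_iff_not_dvd hp).2 hk).symm
    obtain ⟨m, hm⟩ := exists_pow_eq_self_of_coprime hc
    refine pow_mem (h.2 M hM ?_) k
    rw [← hm]
    exact pow_mem hxM m

/-- a representative conjugate to a power of `y` -/
theorem S.rep {p : ℕ} {R c y : List Gen} {k k' : ℕ} (h : S p (wd R)) (hc : chkB (c ++ R) (pw y k ++ c) = true)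
    (hk : chkB (pw y (k * k')) y = true) : S p (wd y) := by
  have h1 := eq_of_chkB hc
  rw [wd_append, wd_append, wd_pw] at h1
  have h2 := eq_of_chkB hk
  rw [wd_pw] at h2
  have h3 := h.conj (wd c)
  rw [h1, mul_inv_cancel_right] at h3
  exact h3.of_pow h2

/-! ### Order 7 -/

def yA : List Gen := [.d, .f, .g]
def yD : List Gen := [.f, .d, .c, .d, .f, .g, .d, .c, .d, .g, .b, .f, .d, .c, .d, .f, .g, .d, .c, .d, .g, .b]
def yC : List Gen := [.b, .c, .d, .g, .d, .e, .c, .d, .g, .f, .c]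

theorem no_yA : ¬ RE (wd yA) :=
  not_re_cent (u := [.a]) (g := [.c]) (l := [0, 0, 3]) (d := 2) (m := 7) (n := 5) (k := 3) (by decide +kernel)
    (by decide +kernel) (by decide +kernel) (by decide +kernel)

theorem no_yD : ¬ RE (wd yD) :=
  not_re_cent (u := [.d]) (g := [.b]) (l := [0, 2]) (d := 1) (m := 7) (n := 3) (k := 2) (by decide +kernel)
    (by decide +kernel) (by decide +kernel) (by decide +kernel)

theorem no_yC : ¬ RE (wd yC) :=
  not_re_cent (u := [.d, .f]) (g := [.a]) (l := [0, 0, 2]) (d := 3) (m := 7) (n := 5) (k := 6) (by decide +kernel)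
    (by decide +kernel) (by decide +kernel) (by decide +kernel)

theorem seven {x : G} (hx : orderOf x = 7) (hR : RE x) : False := by
  have hf := H436.HeFive.finite_he
  have h7 : Fact (Nat.Prime 7) := ⟨by norm_num⟩
  have hS : S 7 x := ⟨by rw [← hx]; exact pow_orderOf_eq_one x, hR⟩
  have r1 : wd B7 * wd A7 = wd W7 * (wd A7 * wd B7) := by
    have h1 := eq_of_chkB (show chkB (B7 ++ A7) (W7 ++ (A7 ++ B7)) = true by decide +kernel)
    rwa [wd_append, wd_append, wd_append] at h1
  have r2 : wd A7 * wd W7 = wd W7 * wd A7 := by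
    have h1 := eq_of_chkB (show chkB (A7 ++ W7) (W7 ++ A7) = true by decide +kernel)
    rwa [wd_append, wd_append] at h1
  have r3 : wd B7 * wd W7 = wd W7 * wd B7 := by
    have h1 := eq_of_chkB (show chkB (B7 ++ W7) (W7 ++ B7) = true by decide +kernel)
    rwa [wd_append, wd_append] at h1
  have r4 : wd A7 ^ 7 = 1 := by
    have h1 := eq_of_chkB (show chkB (pw A7 7) [] = true by decide +kernel)
    rwa [wd_pw, wd_nil] at h1
  have r5 : wd B7 ^ 7 = 1 := by
    have h1 := eq_of_chkB (show chkB (pw B7 7) [] = true by decide +kernel)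
    rwa [wd_pw, wd_nil] at h1
  have r6 : wd W7 ^ 7 = 1 := by
    have h1 := eq_of_chkB (show chkB (pw W7 7) [] = true by decide +kernel)
    rwa [wd_pw, wd_nil] at h1
  have r7 : wd W7 ≠ 1 := by
    rw [← wd_nil]
    exact ne_of_chkB (by decide +kernel)
  have key : ∀ (j : ℕ) (X : List Gen), chkB (A7 ++ pw B7 j) X = true → wd A7 * wd B7 ^ j = wd X := by
    intro j X hj
    have h1 := eq_of_chkB hj
    rwa [wd_append, wd_pw] at h1
  rcases H587.NR.exists_extra (p := 7) r1 r2 r3 r4 r5 r6 r7 (by rw [card_he]; norm_num) (S := S 7)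
    (fun x k h => h.pow (by norm_num) k) (fun x u h => h.conj u) hx hS with h | h | ⟨j, hj, h⟩
  · exact no_yC (h.rep (k := 3) (k' := 5)
      (c := [.e, .d, .c, .b, .d, .c, .d, .g, .d, .c, .d, .c, .d, .g, .d, .c, .d]) (by decide +kernel) (by decide +kernel)).2
  · exact no_yA (h.rep (k := 1) (k' := 1)
      (c := [.d, .c, .b, .d, .g, .f, .d, .c, .b, .d, .c, .f, .d, .g, .b, .c, .d, .f, .c, .b]) (by decide +kernel)
      (by decide +kernel)).2
  · interval_cases j
    · exact no_yD ((key _ _ eq7_0 ▸ h : S 7 (wd X7_0)).rep (k := 1) (k' := 1)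
        (c := [.a, .e, .f, .d, .c, .b, .g, .f, .d, .c, .d, .c, .f, .d, .e, .b, .c, .d, .b, .c, .d, .g]) (by decide +kernel)
        (by decide +kernel)).2
    · exact no_yC ((key _ _ eq7_1 ▸ h : S 7 (wd X7_1)).rep (k := 1) (k' := 1)
        (c := [.c, .b, .d, .c, .d, .c, .b, .e, .f, .d, .c, .d, .f, .c]) (by decide +kernel) (by decide +kernel)).2
    · exact no_yC ((key _ _ eq7_2 ▸ h : S 7 (wd X7_2)).rep (k := 3) (k' := 5)
        (c := [.g, .d, .c, .d, .c, .b, .e, .g, .d, .c, .d, .g, .f, .d, .g, .a]) (by decide +kernel) (by decide +kernel)).2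
    · exact no_yA ((key _ _ eq7_3 ▸ h : S 7 (wd X7_3)).rep (k := 1) (k' := 1)
        (c := [.c, .f, .d, .c, .b, .d, .c, .d, .c, .e, .d, .g, .b, .c, .d, .c, .d, .f, .g, .c, .b]) (by decide +kernel)
        (by decide +kernel)).2
    · exact no_yD ((key _ _ eq7_4 ▸ h : S 7 (wd X7_4)).rep (k := 1) (k' := 1)
        (c := [.a, .c, .b, .e, .d, .c, .d, .c, .f, .d, .c, .g, .d, .b, .c, .d, .g, .d, .b, .c, .d, .f]) (by decide +kernel)
        (by decide +kernel)).2
    · exact no_yD ((key _ _ eq7_5 ▸ h : S 7 (wd X7_5)).rep (k := 1) (k' := 1)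
        (c := [.f, .d, .c, .b, .d, .c, .e, .f, .d, .c, .d, .b]) (by decide +kernel) (by decide +kernel)).2
    · exact no_yC ((key _ _ eq7_6 ▸ h : S 7 (wd X7_6)).rep (k := 1) (k' := 1)
        (c := [.g, .d, .c, .d, .c, .b, .g, .d, .c, .f, .d, .c, .d, .f, .e, .c, .d, .b]) (by decide +kernel)
        (by decide +kernel)).2

/-! ### Order 5 -/

theorem no_five : ¬ RE (wd H436.HeFive.X) :=
  not_re_cent (u := [.a]) (g := [.e]) (l := [0, 3]) (d := 1) (m := 5) (n := 3) (k := 2) (by decide +kernel)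
    (by decide +kernel) (by decide +kernel) (by decide +kernel)

/-- an element of the same order in `⟨y⟩` -/
theorem S.of_zpowers {p : ℕ} {w y : G} (h : S p w) (hw : orderOf w = p) (hy : orderOf y = p) (hwy : w ∈ zpowers y) :
    S p y := by
  have hf := H436.HeFive.finite_he
  have h1 : zpowers w = zpowers y :=
    eq_of_le_of_card_ge (zpowers_le.2 hwy) (by rw [Nat.card_zpowers, Nat.card_zpowers, hw, hy])
  have h2 : y ∈ zpowers w := by rw [h1]; exact mem_zpowers y
  refine ⟨by rw [← hy]; exact pow_orderOf_eq_one y, fun M hM hyM => ?_⟩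
  exact zpowers_le.2 (h.2 M hM (zpowers_le.2 hyM hwy)) h2

theorem five {x : G} (hx : orderOf x = 5) (hR : RE x) : False := by
  obtain ⟨u, hu⟩ := H436.HeFive.exists_conj hx
  have hS : S 5 x := ⟨by rw [← hx]; exact pow_orderOf_eq_one x, hR⟩
  exact no_five ((hS.conj u).of_zpowers (by rw [CpAutHe.Seven.orderOf_conj', hx]) H436.HeFive.orderX hu).2

/-! ### Order 17 -/

/-- the stabilizer of a point -/
noncomputable def St : Subgroup G := (MulAction.stabilizer (Equiv.Perm (Fin 2058)) (1927 : Fin 2058)).comap phi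

theorem mem_St {w : List Gen} (h : Nat.beq (act w 1927) 1927 = true) : wd w ∈ St := by
  show phi (wd w) 1927 = 1927
  apply Fin.ext
  rw [← act_eq w 1927]
  exact Nat.eq_of_beq_eq_true h

theorem St_ne : St ≠ ⊤ := by
  intro h
  have h1 : wd [.b] ∈ St := h ▸ mem_top _
  have h2 : phi (wd [.b]) 1927 = 1927 := h1
  have h3 := act_eq [.b] 1927
  rw [h2] at h3
  have h4 : Nat.beq (act [.b] 1927) 1927 = false := by decide +kernel
  have h5 : act [.b] 1927 = 1927 := h3
  rw [h5] at h4
  exact absurd h4 (by decide)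

theorem no_seventeen : ¬ RE (wd H393.Sp.He.X) :=
  not_re (M := St) St_ne (mem_St (by decide +kernel)) (g := [.a, .c, .e]) (mem_St (by decide +kernel)) (l := [0, 3])
    (d := 3) (m := 17) (n := 2) (k := 15) (by decide +kernel)

theorem seventeen {x : G} (hx : orderOf x = 17) (hR : RE x) : False := by
  have hf := H436.HeFive.finite_he
  have h17 : Fact (Nat.Prime 17) := ⟨by norm_num⟩
  obtain ⟨u, hu⟩ := CpAutON.Gen.conj_into (G := G) (p := 17) (by rw [card_he]; norm_num) hx H393.Sp.He.order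
  have hS : S 17 x := ⟨by rw [← hx]; exact pow_orderOf_eq_one x, hR⟩
  exact no_seventeen ((hS.conj u).of_zpowers (by rw [CpAutHe.Seven.orderOf_conj', hx]) H393.Sp.He.order hu).2

theorem no_re_he {p : ℕ} (hp : p.Prime) (h5 : 5 ≤ p) {x : G} (hx : orderOf x = p) (hR : RE x) : False := by
  have hf := H436.HeFive.finite_he
  have h1 : p ∣ 4030387200 := by
    rw [← card_he, ← hx]
    exact orderOf_dvd_natCard x
  rw [show (4030387200 : ℕ) = 2 ^ 10 * (3 ^ 3 * (5 ^ 2 * (7 ^ 3 * 17))) by norm_num] at h1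
  have h2 : ∀ {a b n : ℕ}, a.Prime → p ∣ a ^ n * b → p = a ∨ p ∣ b := by
    intro a b n ha h
    rcases hp.dvd_mul.1 h with h | h
    · exact Or.inl ((Nat.prime_dvd_prime_iff_eq hp ha).1 (hp.dvd_of_dvd_pow h))
    · exact Or.inr h
  rcases h2 (by norm_num) h1 with h | h
  · omega
  rcases h2 (by norm_num) h with h | h
  · omega
  rcases h2 (by norm_num) h with h | h
  · subst h; exact five hx hR
  rcases h2 (by norm_num) h with h | h
  · subst h; exact seven hx hR
  have h3 := (Nat.prime_dvd_prime_iff_eq hp (by norm_num)).1 h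
  subst h3
  exact seventeen hx hR

/-- **the row of the Held group for S3846** -/
theorem noE_he {K : Type*} [Group K] [Finite K] [IsSimpleGroup K] (h : Cfsg.Spor.IsoHe K) {p : ℕ} [hpp : Fact p.Prime]
    (hp : 5 ≤ p) (_hb : Blk p K) (_hO : ThO p K) : NoE p K := by
  have hf := H436.HeFive.finite_he
  obtain ⟨e⟩ := h
  exact NoE.congr e fun x hx hR _ => no_re_he hpp.out hp hx hR

end Cfsg.Agent.H70.NoEHe
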