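import Cfsg.Agent.H516.TwoFrame
import Cfsg.Agent.QTUnique.He
import Cfsg.Agent.KFacts.He.Hyp
import Cfsg.Agent.SporadicRecognition.HeldFusion
import Cfsg.Agent.S1695

/-!
# `NXC` for `He` (helper70)

`T` the Sylow 2-subgroup `img ι T0` (`ι` identifies the centralizer of a transvection of `SL(5, 2)` with `C(z)`).  The
automorphisms of `He` which map `T` onto `T` fix `z` (`Z(T) = ⟨z⟩`) and permute the two elementary abelian subgroups
`img ι V1`, `img ι V2` of order 64 of `T`; the normalizers of `⟨z⟩` and of `img ι V1 ⊔ img ι V2` generate `He`.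
-/

set_option autoImplicit false

namespace Cfsg.Agent.H70.HeNXC

open Subgroup Cfsg Cfsg.Agent.GH.Pc Cfsg.Agent.GH.Models.Proj Cfsg.Agent.KFacts.He.Words
  Cfsg.Agent.SporadicRecognition.CosetCert Cfsg.Agent.Held.Letters Cfsg.Agent.QTUnique.He
  Cfsg.Agent.H516.Two
open Cfsg.Agent.SporadicRecognition.HeldModel (CC T0 V1 V2 L5 zC Hyp img mem_img ι_mem_img img_mono card_img card_V1
  card_V2 V1_le_CC V2_le_CC V1_le_T0 V2_le_T0 T0_le_CC elab64 mul_self_of_mem_V1 exists_sylow centralizer_T0
  x_mem_T0)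

section abs

variable {G : Type*} [Group G] {z : G} {ι : CC →* G}

theorem mul_self_of_mem_V2 {g : L5} (hg : g ∈ V2) : g * g = 1 := by
  have h1 := mul_self_of_mem_V1 (Cfsg.Agent.SporadicRecognition.HeldModel.tau_mem_V1 hg)
  rw [← map_mul] at h1
  exact (map_eq_one_iff Cfsg.Agent.SporadicRecognition.HeldModel.tau
    Cfsg.Agent.SporadicRecognition.HeldModel.tau_inj).1 h1

theorem sq_img {V : Subgroup L5} (hV : V = V1 ∨ V = V2) {w : G} (hw : w ∈ img ι V) : w * w = 1 := by
  obtain ⟨u, hu, rfl⟩ := mem_img.1 hw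
  rw [← map_mul]
  have h1 : u * u = 1 := by
    apply Subtype.ext
    rcases hV with rfl | rfl
    · exact mul_self_of_mem_V1 hu
    · exact mul_self_of_mem_V2 hu
  rw [h1, map_one]

theorem card_img' (h : Hyp z ι) {V : Subgroup L5} (hV : V = V1 ∨ V = V2) : Nat.card ↥(img ι V) = 64 := by
  rcases hV with rfl | rfl
  · rw [card_img h V1_le_CC, card_V1]
  · rw [card_img h V2_le_CC, card_V2]

theorem le_T0 {V : Subgroup L5} (hV : V = V1 ∨ V = V2) : V ≤ T0 := by
  rcases hV with rfl | rfl
  · exact V1_le_T0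
  · exact V2_le_T0

/-- the elementary abelian subgroups of order 64 of `img ι T0` -/
theorem elab_img (h : Hyp z ι) {X : Subgroup G} (hle : X ≤ img ι T0) (hsq : ∀ w ∈ X, w * w = 1)
    (hX : Nat.card ↥X = 64) : X = img ι V1 ∨ X = img ι V2 := by
  set A' : Subgroup CC := X.comap ι with hA'
  set A : Subgroup L5 := A'.map CC.subtype with hA
  have hAT : A ≤ T0 := by
    rintro _ ⟨u, hu, rfl⟩
    exact (ι_mem_img h).1 (hle hu)
  have hmap : A'.map ι = X := by
    apply le_antisymm
    · rintro _ ⟨u, hu, rfl⟩; exact hu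
    · intro w hw
      obtain ⟨u, _, rfl⟩ := mem_img.1 (hle hw)
      exact ⟨u, hw, rfl⟩
  have hcard : Nat.card A = 64 := by
    rw [hA, Subgroup.card_map_of_injective (Subgroup.subtype_injective _),
      ← Subgroup.card_map_of_injective h.inj, hmap, hX]
  have h2 : ∀ a ∈ A, a * a = 1 := by
    rintro _ ⟨u, hu, rfl⟩
    have huu : ι (u * u) = ι 1 := by
      rw [map_mul, map_one]
      exact hsq _ hu
    exact congrArg Subtype.val (h.inj huu)
  have himg : img ι A = X := by
    rw [← hmap, img]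
    congr 1
    exact Subgroup.comap_map_eq_self_of_injective (Subgroup.subtype_injective _) A'
  rcases elab64 A hAT h2 hcard with h3 | h3
  · left; rw [← himg, h3]
  · right; rw [← himg, h3]

/-- **`img ι V1 ⊔ img ι V2` is invariant** -/
theorem inv_J [Finite G] (h : Hyp z ι) : Inv (img ι T0) (img ι V1 ⊔ img ι V2) := by
  intro α hα
  have key : ∀ V : Subgroup L5, V = V1 ∨ V = V2 → (img ι V).map α.toMonoidHom ≤ img ι V1 ⊔ img ι V2 := by
    intro V hV
    have h1 : (img ι V).map α.toMonoidHom ≤ img ι T0 := by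
      rw [← hα]
      exact map_mono (img_mono (le_T0 hV))
    have h2 : ∀ w ∈ (img ι V).map α.toMonoidHom, w * w = 1 := by
      rintro _ ⟨v, hv, rfl⟩
      rw [← map_mul, sq_img hV hv, map_one]
    have h3 : Nat.card ↥((img ι V).map α.toMonoidHom) = 64 := by
      rw [card_map_of_injective α.injective, card_img' h hV]
    rcases elab_img h h1 h2 h3 with h4 | h4
    · rw [h4]; exact le_sup_left
    · rw [h4]; exact le_sup_right
  apply eq_of_le_of_card_ge
  · rw [Subgroup.map_sup]
    exact sup_le (key V1 (Or.inl rfl)) (key V2 (Or.inr rfl))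
  · rw [card_map_of_injective α.injective]

theorem center_T (h : Hyp z ι) {y : G} (hy : y ∈ img ι T0) (hc : ∀ t ∈ img ι T0, t * y = y * t) : y = 1 ∨ y = z := by
  obtain ⟨u, hu, rfl⟩ := mem_img.1 hy
  have hu2 : ∀ t ∈ T0, (u : L5) * t = t * (u : L5) := by
    intro t ht
    have h1 := hc (ι ⟨t, T0_le_CC ht⟩) (mem_img.2 ⟨_, ht, rfl⟩)
    rw [← map_mul, ← map_mul] at h1
    exact (congrArg Subtype.val (h.inj h1)).symm
  rcases centralizer_T0 u.2 hu2 with h1 | h1
  · left
    have : u = 1 := Subtype.ext h1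
    rw [this, map_one]
  · right
    rw [← h.map_zz]
    congr 1
    exact Subtype.ext h1

end abs

section he

open Cfsg.Agent.KFacts.He.Hyp

/-- the presentation of an elementary abelian group -/
def P6 : Pres 6 where
  sq _ := []
  cj _ j := [j]

theorem P6_ok : P6.Ok := by decide

noncomputable def nfc6 (u : Fin 6 → ℕ) (e : Fin 6 → Bool) : Bool :=
  isZ e || !(eqW (((List.finRange 6).filter fun i => e i).map u) [])

theorem word_E {n : ℕ} (u : Fin n → ℕ) (l : List (Fin n)) : word (fun i => E [u i]) l = E (l.map u) := by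
  induction l with
  | nil => rw [List.map_nil, E_nil]; rfl
  | cons i l ih => rw [word_cons, ih, List.map_cons, E_cons (u i) (l.map u)]

theorem card_cl (u : Fin 6 → ℕ) (hsq : ∀ i, eqW [u i, u i] [] = true)
    (hcj : ∀ i j : Fin 6, i < j → eqW [u i, u j] [u j, u i] = true) (hnf : allB 6 (nfc6 u) = true) :
    Nat.card ↥(closure (Set.range fun i => E [u i])) = 64 := by
  have hsat : Sat P6 (fun i => E [u i]) := by
    constructor
    · intro i
      show E [u i] * E [u i] = 1
      rw [← E_append, ← E_nil]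
      exact E_eq (hsq i)
    · intro i j hij
      show E [u i] * E [u j] = word (fun i => E [u i]) [j] * E [u i]
      rw [word_E, ← E_append, ← E_append]
      exact E_eq (hcj i j hij)
  refine Cfsg.Agent.QTUnique.PcCard.card_of_nf P6_ok hsat fun e h => ?_
  have h1 := allB_spec hnf e
  rw [nfc6, Bool.or_eq_true] at h1
  rcases h1 with h1 | h1
  · exact isZ_spec h1
  · exfalso
    unfold nf at h
    rw [word_E, ← E_nil] at h
    exact E_ne (by simpa using h1) h

theorem card_A : Nat.card ↥(closure (Set.range fun i => E [uA i])) = 64 :=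
  card_cl uA (by decide +kernel) (by decide +kernel) (by decide +kernel)

theorem card_B : Nat.card ↥(closure (Set.range fun i => E [uB i])) = 64 :=
  card_cl uB (by decide +kernel) (by decide +kernel) (by decide +kernel)

theorem E_eq_iota {n : ℕ} (hn : n < 12) : E [n] = iota (gx Cfsg.Agent.KFacts.TwoSix.OfSt.xC n) := by
  rw [iota_xC n hn]
  unfold E
  rw [ev_cons, ev_nil, mul_one]
  interval_cases n <;> rfl

/-- `x i j` lies in the pattern subgroup if `(i, j)` is in the pattern -/
theorem x_pat {P : Fin 5 → Fin 5 → Bool} (hP : Cfsg.Agent.SporadicRecognition.HeldModel.Tr P) {i j : Fin 5} (h : i ≠ j)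
    (hj : j ≠ 0) (hi : i ≠ 4) (hij : P i j = true) :
    ((Cfsg.Agent.KFacts.TwoSix.OfSt.xC i j : CC) : L5) ∈ Cfsg.Agent.SporadicRecognition.HeldModel.pat P hP := by
  rw [Cfsg.Agent.KFacts.TwoSix.OfSt.xC_eq h hj hi]
  intro k l hkl
  rw [Cfsg.Agent.SporadicRecognition.HeldModel.coe_x, Matrix.sub_apply,
    Cfsg.Agent.SporadicRecognition.HeldModel.transvection_apply', Matrix.one_apply, add_sub_cancel_left]
  rw [if_neg]
  rintro ⟨rfl, rfl⟩
  rw [hij] at hkl
  exact absurd hkl (by decide)

theorem mem_A (i : Fin 6) : E [uA i] ∈ img iota V2 := by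
  have h : uA i < 12 := by revert i; decide
  rw [E_eq_iota h, mem_img]
  refine ⟨_, ?_, rfl⟩
  fin_cases i
  · exact x_pat (i := 0) (j := 3) _ (by decide) (by decide) (by decide) (by decide)
  · exact x_pat (i := 0) (j := 4) _ (by decide) (by decide) (by decide) (by decide)
  · exact x_pat (i := 1) (j := 3) _ (by decide) (by decide) (by decide) (by decide)
  · exact x_pat (i := 1) (j := 4) _ (by decide) (by decide) (by decide) (by decide)
  · exact x_pat (i := 2) (j := 3) _ (by decide) (by decide) (by decide) (by decide)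
  · exact x_pat (i := 2) (j := 4) _ (by decide) (by decide) (by decide) (by decide)

theorem mem_B (i : Fin 6) : E [uB i] ∈ img iota V1 := by
  have h : uB i < 12 := by revert i; decide
  rw [E_eq_iota h, mem_img]
  refine ⟨_, ?_, rfl⟩
  fin_cases i
  · exact x_pat (i := 0) (j := 2) _ (by decide) (by decide) (by decide) (by decide)
  · exact x_pat (i := 0) (j := 3) _ (by decide) (by decide) (by decide) (by decide)
  · exact x_pat (i := 0) (j := 4) _ (by decide) (by decide) (by decide) (by decide)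
  · exact x_pat (i := 1) (j := 2) _ (by decide) (by decide) (by decide) (by decide)
  · exact x_pat (i := 1) (j := 3) _ (by decide) (by decide) (by decide) (by decide)
  · exact x_pat (i := 1) (j := 4) _ (by decide) (by decide) (by decide) (by decide)

theorem img_A : img iota V2 = closure (Set.range fun i => E [uA i]) := by
  symm
  apply eq_of_le_of_card_ge
  · rw [closure_le]
    rintro _ ⟨i, rfl⟩
    exact mem_A i
  · rw [card_img' hyp (Or.inr rfl), card_A]

theorem img_B : img iota V1 = closure (Set.range fun i => E [uB i]) := by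
  symm
  apply eq_of_le_of_card_ge
  · rw [closure_le]
    rintro _ ⟨i, rfl⟩
    exact mem_B i
  · rw [card_img' hyp (Or.inl rfl), card_B]

/-- the letters of `J` -/
def uJ (i : Fin 8) : ℕ := i.val + 1

theorem img_J : img iota V1 ⊔ img iota V2 = closure (Set.range fun i => E [uJ i]) := by
  rw [img_A, img_B, ← Subgroup.closure_union]
  congr 1
  ext g
  constructor
  · rintro (⟨i, rfl⟩ | ⟨i, rfl⟩)
    · obtain ⟨k, hk⟩ : ∃ k : Fin 8, uJ k = uB i := by revert i; decide
      exact ⟨k, by show E [uJ k] = E [uB i]; rw [hk]⟩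
    · obtain ⟨k, hk⟩ : ∃ k : Fin 8, uJ k = uA i := by revert i; decide
      exact ⟨k, by show E [uJ k] = E [uA i]; rw [hk]⟩
  · rintro ⟨k, rfl⟩
    have h : (∃ i, uB i = uJ k) ∨ ∃ i, uA i = uJ k := by revert k; decide
    rcases h with ⟨i, hi⟩ | ⟨i, hi⟩
    · exact Or.inl ⟨i, by show E [uB i] = E [uJ k]; rw [hi]⟩
    · exact Or.inr ⟨i, by show E [uA i] = E [uJ k]; rw [hi]⟩

/-- the images of the generators of `J` under the letter `w` -/
def tJ (w : ℕ) (i : Fin 8) : List (Fin 8) :=
  match w, i.val with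
  | 12, 0 => [0, 1, 2, 4, 5]
  | 12, 1 => [1, 2]
  | 12, 2 => [1]
  | 12, 3 => [1, 2, 3]
  | 12, 4 => [4, 5]
  | 12, 5 => [4]
  | 12, 6 => [6, 7]
  | 12, 7 => [6]
  | 14, 0 => [3]
  | 14, 1 => [4]
  | 14, 2 => [5]
  | 14, 3 => [0, 3]
  | 14, 4 => [1, 4]
  | 14, 5 => [2, 5]
  | 14, 6 => [2, 5, 6]
  | 14, 7 => [1, 2, 4, 5, 7]
  | _, _ => [i]

theorem chkJ1 : ∀ i : Fin 8, eqW [12, uJ i] ((tJ 12 i).map uJ ++ [12]) = true := by decide +kernel

theorem chkJ2 : ∀ i : Fin 8, eqW [14, uJ i] ((tJ 14 i).map uJ ++ [14]) = true := by decide +kernel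

theorem norm_J (w : ℕ) (h : ∀ i : Fin 8, eqW [w, uJ i] ((tJ w i).map uJ ++ [w]) = true) :
    E [w] ∈ normalizer ((img iota V1 ⊔ img iota V2 : Subgroup Spor.He) : Set Spor.He) := by
  rw [img_J]
  apply Cfsg.Agent.QTUnique.GenTools.mem_normalizer_closure'
  rintro _ ⟨i, rfl⟩
  have hm : ∀ i : Fin 8, E [uJ i] ∈ Subgroup.closure (Set.range fun i : Fin 8 => E [uJ i]) := fun i =>
    subset_closure ⟨i, rfl⟩
  refine ⟨E ((tJ w i).map uJ), E_map_mem uJ _ hm _, ?_⟩
  show E [w] * E [uJ i] = _
  rw [← E_append, ← E_append]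
  exact E_eq (h i)

theorem z_eq : Cfsg.Agent.KFacts.He.Bound.z = E [3] := by
  unfold E
  rw [ev_cons, ev_nil, mul_one]
  rfl

/-- **`NXC` for the model.** -/
theorem nxc_model [IsSimpleGroup Spor.He] : NXC Spor.He := by
  have h2 : Fact (Nat.Prime 2) := ⟨Nat.prime_two⟩
  obtain ⟨T, hT⟩ := exists_sylow hyp
  have hT' : (T : Subgroup Spor.He) = img iota T0 := hT
  have hz1 : E [3] ≠ 1 := z_ne
  have hyp' : Hyp (E [3]) iota := by rw [← z_eq]; exact hyp
  have hzT : E [3] ∈ img iota T0 := by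
    rw [mem_img]
    exact ⟨zC, x_mem_T0 (by decide), hyp'.map_zz⟩
  have hzc : ∀ y ∈ img iota T0, y * E [3] = E [3] * y := by
    intro y hy
    obtain ⟨u, -, rfl⟩ := mem_img.1 hy
    exact hyp'.comm u
  refine ⟨T, fun Y hY => ?_⟩
  rw [hT'] at hY
  have hZ : ∀ k < 12, E [k] ∈ Y := by
    intro k hk
    refine hY (zpowers (E [3])) (fun h => hz1 (zpowers_eq_bot.1 h)) (zpowers_ne_top noncomm _) ?_
      (le_normalizer_zpowers ?_)
    · exact inv_zpowers fun α hα => fix_of_center hz1 hzT hzc (fun y hy hc => center_T hyp' hy hc) hα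
    · rw [← E_append, ← E_append]
      exact E_eq (chkZ ⟨k, hk⟩)
  have hJ : normalizer ((img iota V1 ⊔ img iota V2 : Subgroup Spor.He) : Set Spor.He) ≤ Y := by
    refine hY _ ?_ ?_ (inv_J hyp)
    · intro h
      have h3 : img iota V1 = ⊥ := by
        rw [eq_bot_iff, ← h]
        exact le_sup_left
      have h4 := card_img' hyp (Or.inl rfl : V1 = V1 ∨ V1 = V2)
      rw [h3, Subgroup.card_bot] at h4
      norm_num at h4
    · refine pg_ne_top noncomm (T.isPGroup'.to_le ?_)
      rw [hT']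
      exact sup_le (img_mono V1_le_T0) (img_mono V2_le_T0)
  have y1 : E [12] ∈ Y := hJ (norm_J 12 chkJ1)
  have y2 : E [14] ∈ Y := hJ (norm_J 14 chkJ2)
  have hw : ∀ w : List ℕ, (∀ a ∈ w, a < 12 ∨ a = 12 ∨ a = 14) → E w ∈ Y := by
    intro w
    induction w with
    | nil => intro _; rw [E_nil]; exact one_mem _
    | cons a w ih =>
      intro h
      rw [E_cons]
      refine mul_mem ?_ (ih fun b hb => h b (List.mem_cons_of_mem _ hb))
      rcases h a List.mem_cons_self with ha | rfl | rfl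
      · exact hZ a ha
      · exact y1
      · exact y2
  rw [eq_top_iff, ← Cfsg.Agent.HeldHe.Model.closure_L0, closure_le]
  rintro _ ⟨n, hn, rfl⟩
  have hn' : n < 10 := hn
  rw [SetLike.mem_coe, L0_eq n hn']
  apply hw
  interval_cases n <;> decide

/-- **`NXC` for `He`.** -/
theorem nxc {S : Type*} [Group S] [Finite S] (h : Spor.IsoHe S) : NXC S := by
  obtain ⟨e⟩ := h
  have hs : IsSimpleGroup Spor.He := Cfsg.Agent.S1695.result.1
  exact nxc_model.congr e.symm

end he

end Cfsg.Agent.H70.HeNXC
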