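import Cfsg.Agent.H70.HeMax

/-!
# The data of a frame of the Held group (helper70)
-/

set_option autoImplicit false

namespace Cfsg.Agent.H70.HeFrameDat

open Subgroup Cfsg.Agent.H6.HexW Cfsg.Agent.H70.HeMax

/-! ### The group `3·S6` on the 64 vectors -/

theorem proj_chk : ∀ v : W, v + aa v + aa (aa v) = (v.1, 0, 0) := by
  intro v; simp only [aa_apply]; revert v; decide +kernel

theorem fa_chk : ∀ a : F, a ≠ 0 → (a = e1 ∨ om a = e1 ∨ om (om a) = e1) ∧ (a = ew ∨ om a = ew ∨ om (om a) = ew) := by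
  decide +kernel

theorem om_zero : om 0 = 0 := by decide +kernel

/-- a nonzero subspace invariant under `aa`, `bb`, `sc` is everything -/
theorem all_of {P : W → Prop} (hadd : ∀ u v, P u → P v → P (u + v)) (h0 : P 0) (ha : ∀ v, P v → P (aa v))
    (hb : ∀ v, P v → P (bb v)) (hs : ∀ v, P v → P (sc v)) {w : W} (hw : w ≠ 0) (hP : P w) : ∀ v, P v := by
  have hproj : ∀ v, P v → P (v.1, 0, 0) := fun v hv => by
    rw [← proj_chk]
    exact hadd _ _ (hadd _ _ hv (ha _ hv)) (ha _ (ha _ hv))
  have h1 : ∃ a : F, a ≠ 0 ∧ P (a, 0, 0) := by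
    by_cases h1 : w.1 = 0
    · by_cases h2 : w.2.2 = 0
      · by_cases h3 : w.2.1 = 0
        · exact absurd (Prod.ext h1 (Prod.ext h3 h2)) hw
        · have h4 := hproj _ (hb _ (hb _ hP))
          simp only [bb_apply] at h4
          exact ⟨_, h3, h4⟩
      · have h4 := hproj _ (hb _ hP)
        simp only [bb_apply] at h4
        exact ⟨_, h2, h4⟩
    · exact ⟨_, h1, hproj _ hP⟩
  obtain ⟨a, ha0, haP⟩ := h1
  have hsa : ∀ b : F, P (b, 0, 0) → P (om b, 0, 0) := fun b hb' => by
    have h4 := hs _ hb'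
    simp only [sc_apply, om_zero] at h4
    exact h4
  have hba : ∀ b : F, P (b, 0, 0) → P (0, b, 0) ∧ P (0, 0, b) := fun b hb' => by
    have h4 := hb _ hb'
    simp only [bb_apply] at h4
    have h5 := hb _ h4
    simp only [bb_apply] at h5
    exact ⟨h4, h5⟩
  obtain ⟨h2, h3⟩ := fa_chk a ha0
  have he : P (e1, 0, 0) := by
    rcases h2 with h | h | h
    · rw [← h]; exact haP
    · rw [← h]; exact hsa _ haP
    · rw [← h]; exact hsa _ (hsa _ haP)
  have hw' : P (ew, 0, 0) := by
    rcases h3 with h | h | h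
    · rw [← h]; exact haP
    · rw [← h]; exact hsa _ haP
    · rw [← h]; exact hsa _ (hsa _ haP)
  exact induct hadd h0 he hw' (hba _ he).1 (hba _ hw').1 (hba _ he).2 (hba _ hw').2

/-- the order of a subgroup from its image -/
theorem card_map_ker {A B : Type*} [Group A] [Group B] [Finite A] (f : A →* B) (H : Subgroup A) :
    Nat.card H = Nat.card (H.map f) * Nat.card ↥(H ⊓ f.ker) := by
  have h1 : (f.comp H.subtype).range = H.map f := by
    rw [MonoidHom.range_comp, range_subtype]
  have h2 : Nat.card (f.comp H.subtype).ker = Nat.card ↥(H ⊓ f.ker) := by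
    have h3 : (f.comp H.subtype).ker.map H.subtype = H ⊓ f.ker := by
      ext x
      constructor
      · rintro ⟨y, hy, rfl⟩
        exact mem_inf.2 ⟨y.2, hy⟩
      · intro hx
        obtain ⟨h4, h5⟩ := mem_inf.1 hx
        exact ⟨⟨x, h4⟩, h5, rfl⟩
    rw [← h3, card_map_of_injective H.subtype_injective]
  rw [← h1, ← h2, ← card_mul_index (f.comp H.subtype).ker, index_ker, mul_comm]

/-- the orders of the normal subgroups of `3·S6` -/
theorem card_normal (hs : Function.Surjective pi) (P : Subgroup GW) (hP : P.Normal) :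
    64 * Nat.card P ∈ J := by
  have hQ : (P.map pi).Normal := hP.map pi hs
  have hq : Nat.card (P.map pi) = 1 ∨ Nat.card (P.map pi) = 360 ∨ Nat.card (P.map pi) = 720 := by
    by_cases hb : P.map pi = ⊥
    · left; rw [hb]; exact card_bot
    · right
      have hnt : Nontrivial (P.map pi) := (nontrivial_iff_ne_bot _).2 hb
      have h1 := Equiv.Perm.alternatingGroup_le_of_normal (α := Fin 6) (by rw [Nat.card_fin]; norm_num) hnt
      have h2 : Nat.card (alternatingGroup (Fin 6)) = 360 := by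
        rw [nat_card_alternatingGroup, Nat.card_fin]; rfl
      have h3 : Nat.card (Equiv.Perm (Fin 6)) = 720 := by
        rw [Nat.card_perm, Nat.card_fin]; rfl
      obtain ⟨c, hc⟩ := card_dvd_of_le h1
      rw [h2] at hc
      have h4 := card_subgroup_dvd_card (P.map pi)
      rw [h3, hc, show (720 : ℕ) = 360 * 2 by norm_num] at h4
      have h5 : c ∣ 2 := Nat.dvd_of_mul_dvd_mul_left (by norm_num) h4
      rcases (Nat.dvd_prime Nat.prime_two).1 h5 with h6 | h6
      · left; rw [hc, h6]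
      · right; rw [hc, h6]
  have hk : Nat.card ↥(P ⊓ pi.ker) = 1 ∨ Nat.card ↥(P ⊓ pi.ker) = 3 := by
    apply (Nat.dvd_prime Nat.prime_three).1
    rw [← card_ker]
    exact card_dvd_of_le inf_le_right
  rw [card_map_ker pi P]
  rcases hq with h | h | h <;> rcases hk with h' | h' <;> rw [h, h'] <;> decide

section

variable {G : Type*} [Group G] {z : G} {V : Subgroup G} {e : W → G} {σ : Equiv.Perm (Fin 6)} {g h : G}

/-- the elements of `3·S6` are induced by `N(V)` -/
theorem exists_act (fr : Frame z V e σ g h) {α : Equiv.Perm W} (hα : α ∈ GW) :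
    ∃ x ∈ normalizer (V : Set G), ∀ w, e (α w) = x * e w * x⁻¹ := by
  obtain ⟨x, hx⟩ := fr.psi_surj ⟨α, hα⟩
  refine ⟨x, x.2, fun w => ?_⟩
  rw [← fr.e_act x.2 w]
  have h1 := congrArg (fun β : GW => (β : Equiv.Perm W) w) hx
  exact congrArg e h1.symm

theorem irr (fr : Frame z V e σ g h) (U : Subgroup G) (hU : U ≤ V)
    (hn : ∀ g ∈ normalizer (V : Set G), ∀ u ∈ U, g * u * g⁻¹ ∈ U) : U = ⊥ ∨ U = V := by
  by_cases hb : U = ⊥
  · exact Or.inl hb
  right
  obtain ⟨u, hu1⟩ := (Subgroup.ne_bot_iff_exists_ne_one).1 hb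
  obtain ⟨w, hw⟩ := (fr.mem _).1 (hU u.2)
  have hinv : ∀ {α : Equiv.Perm W}, α ∈ GW → ∀ v, e v ∈ U → e (α v) ∈ U := by
    intro α hα v hv
    obtain ⟨x, hx, he⟩ := exists_act fr hα
    rw [he]
    exact hn x hx _ hv
  have hall := all_of (P := fun v => e v ∈ U) (fun u v hu hv => by rw [fr.add]; exact mul_mem hu hv)
    (by rw [fr.zero]; exact one_mem _) (hinv aa_mem) (hinv bb_mem) (hinv sc_mem) (w := w) (by
      rintro rfl
      rw [fr.zero] at hw
      exact hu1 (Subtype.ext hw.symm)) (by rw [hw]; exact u.2)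
  apply le_antisymm hU
  intro v hv
  obtain ⟨w', rfl⟩ := (fr.mem v).1 hv
  exact hall w'

theorem card_V (fr : Frame z V e σ g h) : Nat.card V = 64 := by
  have h1 : Function.Bijective (fun w : W => (⟨e w, fr.e_mem w⟩ : V)) := by
    refine ⟨fun a b hab => fr.inj (congrArg Subtype.val hab), fun v => ?_⟩
    obtain ⟨w, hw⟩ := (fr.mem v).1 v.2
    exact ⟨w, Subtype.ext hw⟩
  rw [← Nat.card_congr (Equiv.ofBijective _ h1)]
  simp [Nat.card_prod, Nat.card_zmod]

theorem card_GW (hs : Function.Surjective pi) : Nat.card GW = 2160 := by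
  have h1 := card_mul_index pi.ker
  rw [card_ker, index_ker, MonoidHom.range_eq_top.2 hs, card_top, Nat.card_perm, Nat.card_fin] at h1
  rw [← h1]; rfl

theorem card_ker_psi (fr : Frame z V e σ g h) : Nat.card fr.psi.ker = 64 := by
  have h1 : fr.psi.ker = V.subgroupOf (normalizer (V : Set G)) := by
    ext x
    rw [fr.mem_ker, mem_subgroupOf]
  rw [h1, card_subgroupOf_of_le le_normalizer, card_V fr]

theorem card_norm (fr : Frame z V e σ g h) : Nat.card (normalizer (V : Set G)) = 138240 := by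
  have h1 := card_mul_index fr.psi.ker
  rw [card_ker_psi fr, index_ker, MonoidHom.range_eq_top.2 fr.psi_surj, card_top, card_GW fr.pi_surj] at h1
  rw [← h1]

theorem nrm [Finite G] (fr : Frame z V e σ g h) (M : Subgroup G) (hVM : V ≤ M) (hM : M ≤ normalizer (V : Set G))
    (hn : ∀ g ∈ normalizer (V : Set G), ∀ u ∈ M, g * u * g⁻¹ ∈ M) : Nat.card M ∈ J := by
  have hMn : (M.subgroupOf (normalizer (V : Set G))).Normal := by
    refine ⟨fun n hn' g => ?_⟩
    rw [mem_subgroupOf] at hn' ⊢
    exact hn _ g.2 _ hn'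
  have h1 := card_normal fr.pi_surj _ (hMn.map fr.psi fr.psi_surj)
  have h2 := card_map_ker fr.psi (M.subgroupOf (normalizer (V : Set G)))
  have h3 : M.subgroupOf (normalizer (V : Set G)) ⊓ fr.psi.ker = fr.psi.ker := by
    apply inf_eq_right.2
    intro x hx
    exact mem_subgroupOf.2 (hVM (fr.mem_ker.1 hx))
  rw [h3, card_ker_psi fr, card_subgroupOf_of_le hM] at h2
  rw [h2, mul_comm]
  exact h1

/-- **the data of a frame** -/
theorem dat [Finite G] (fr : Frame z V e σ g h) {T : Sylow 2 G} (hVT : V ≤ (T : Subgroup G))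
    (hw : ∀ g : G, (∀ v ∈ V, g * v * g⁻¹ ∈ (T : Subgroup G)) → g ∈ normalizer (V : Set G)) : Dat V T J where
  le := hVT
  cen := fr.cen
  weak := hw
  irr := irr fr
  nrm := nrm fr

end

end Cfsg.Agent.H70.HeFrameDat
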