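import Cfsg.Agent.H6.He.Row
import Cfsg.Agent.H940.EngData
import Cfsg.Agent.H940.EngLoc
import Cfsg.Agent.Lib.ElemAbGL
import Cfsg.Agent.Lib.MinNormal

/-!
# The normalizers of the two self-centralizing subgroups `2^6` of the Held group are maximal (helper70)

* `min_cases` : orders of minimal normal subgroups;
* `Dat V T J` : `V` is weakly closed in the Sylow 2-subgroup `T`, self-centralizing, `N(V)` is irreducible on `V` and the orders
  of the normal subgroups of `N(V)` containing `V` lie in `J`;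
* `Frame.dat` : the data for a frame (`N(V) = 2^6:3.S6`); `coatom1`, `coatom2`.
-/

set_option autoImplicit false

namespace Cfsg.Agent.H70.HeMax

open Subgroup

/-- minimal normal subgroups -/
theorem min_cases {K : Type*} [Group K] [Finite K] (N : Subgroup K) [N.Normal] (hN : N ≠ ⊥)
    (hmin : ∀ M : Subgroup K, M.Normal → M ≤ N → M = ⊥ ∨ M = N) :
    (∃ p k : ℕ, p.Prime ∧ Nat.card N = p ^ k ∧ (∀ x ∈ N, ∀ y ∈ N, x * y = y * x) ∧ ∀ x ∈ N, x ^ p = 1) ∨
    ∃ (k : ℕ) (S : Subgroup K), IsSimpleGroup S ∧ (¬ ∀ a b : S, a * b = b * a) ∧ Nat.card N = Nat.card S ^ k := by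
  obtain ⟨S, m, -, hS, hm, ⟨e⟩⟩ := Lib.MinNormal.exists_mulEquiv_pi N hN hmin
  have hc : Nat.card N = Nat.card S ^ m := by
    rw [Nat.card_congr e.toEquiv, Nat.card_fun, Nat.card_fin]
  by_cases hab : ∀ a b : S, a * b = b * a
  · left
    have hprime : (Nat.card S).Prime := by
      let : CommGroup S := { (inferInstance : Group S) with mul_comm := hab }
      exact IsSimpleGroup.prime_card
    refine ⟨Nat.card S, m, hprime, hc, ?_, ?_⟩
    · intro x hx y hy
      have h1 : (⟨x, hx⟩ : N) * ⟨y, hy⟩ = ⟨y, hy⟩ * ⟨x, hx⟩ := e.injective (by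
        rw [map_mul, map_mul]; funext i; exact hab _ _)
      exact congrArg Subtype.val h1
    · intro x hx
      have h1 : (⟨x, hx⟩ : N) ^ Nat.card S = 1 := e.injective (by
        rw [map_pow, map_one]; funext i; exact pow_card_eq_one')
      exact congrArg Subtype.val h1
  · right
    exact ⟨m, S, hS, hab, hc⟩

theorem exists_min (K : Type*) [Group K] [Finite K] [Nontrivial K] : ∃ N : Subgroup K, N.Normal ∧ N ≠ ⊥ ∧
    ∀ M : Subgroup K, M.Normal → M ≤ N → M = ⊥ ∨ M = N := by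
  obtain ⟨N, hN⟩ := (Set.toFinite {N : Subgroup K | N.Normal ∧ N ≠ ⊥}).exists_minimal
    ⟨⊤, inferInstance, top_ne_bot⟩
  refine ⟨N, hN.1.1, hN.1.2, fun M hM hMN => ?_⟩
  by_cases h : M = ⊥
  · exact Or.inl h
  · exact Or.inr (le_antisymm hMN (hN.2 ⟨hM, h⟩ hMN))

/-- a subgroup acting faithfully on an elementary abelian normal subgroup -/
theorem dvd_GL {K : Type*} [Group K] [Finite K] (N : Subgroup K) [hN : N.Normal] {p k : ℕ} (hp : p.Prime)
    (hc : Nat.card N = p ^ k) (hcomm : ∀ x ∈ N, ∀ y ∈ N, x * y = y * x) (hpow : ∀ x ∈ N, x ^ p = 1) (T : Subgroup K)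
    (hT : T ⊓ centralizer (N : Set K) = ⊥) : Nat.card T ∣ Nat.card (Matrix.GeneralLinearGroup (Fin k) (ZMod p)) := by
  have := Fact.mk hp
  let : CommGroup N := { (inferInstance : Group N) with mul_comm := fun a b => Subtype.ext (hcomm _ a.2 _ b.2) }
  obtain ⟨e⟩ := Lib.ElemAbGL.mulAut_equiv_GL (V := N) p k (fun x => Subtype.ext (hpow _ x.2)) hc
  rw [← Nat.card_congr e.toEquiv]
  let f : T →* MulAut N := (MulAut.conjNormal : K →* MulAut N).comp T.subtype
  have hinj : Function.Injective f := by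
    rw [injective_iff_map_eq_one]
    intro t ht
    have h1 : (t : K) ∈ T ⊓ centralizer (N : Set K) := by
      refine mem_inf.2 ⟨t.2, ?_⟩
      rw [mem_centralizer_iff]
      intro x hx
      have h2 : MulAut.conjNormal (t : K) (⟨x, hx⟩ : N) = ⟨x, hx⟩ := by
        have h3 := congrArg (fun φ : MulAut N => φ ⟨x, hx⟩) ht
        exact h3
      have h4 := congrArg Subtype.val h2
      rw [MulAut.conjNormal_apply] at h4
      exact (mul_inv_eq_iff_eq_mul.1 h4).symm
    rw [hT, mem_bot] at h1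
    exact Subtype.ext h1
  exact card_dvd_of_injective f hinj

/-- the data -/
structure Dat {G : Type*} [Group G] (V : Subgroup G) (T : Sylow 2 G) (J : List ℕ) : Prop where
  le : V ≤ (T : Subgroup G)
  cen : ∀ g : G, (∀ v ∈ V, g * v = v * g) → g ∈ V
  weak : ∀ g : G, (∀ v ∈ V, g * v * g⁻¹ ∈ (T : Subgroup G)) → g ∈ normalizer (V : Set G)
  irr : ∀ U : Subgroup G, U ≤ V → (∀ g ∈ normalizer (V : Set G), ∀ u ∈ U, g * u * g⁻¹ ∈ U) → U = ⊥ ∨ U = V
  nrm : ∀ M : Subgroup G, V ≤ M → M ≤ normalizer (V : Set G) →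
    (∀ g ∈ normalizer (V : Set G), ∀ u ∈ M, g * u * g⁻¹ ∈ M) → Nat.card M ∈ J

section

variable {G : Type*} [Group G] [Finite G] {V : Subgroup G} {T : Sylow 2 G} {J : List ℕ} (d : Dat V T J)
include d

omit [Finite G] in
theorem Dat.T_le : (T : Subgroup G) ≤ normalizer (V : Set G) := fun t ht =>
  d.weak t fun _ hv => (T : Subgroup G).mul_mem (mul_mem ht (d.le hv)) (inv_mem ht)

/-- a normal subgroup of an overgroup of `N(V)` of even order contains `V` -/
theorem Dat.le_of_inf {K : Subgroup G} (hK : normalizer (V : Set G) ≤ K) (M : Subgroup K) [hM : M.Normal]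
    (h : (T : Subgroup G).subgroupOf K ⊓ M ≠ ⊥) : V.subgroupOf K ≤ M := by
  have : Fact (Nat.Prime 2) := ⟨Nat.prime_two⟩
  set M' : Subgroup G := M.map K.subtype with hM'
  have hconj : ∀ g ∈ K, ∀ u ∈ M', g * u * g⁻¹ ∈ M' := by
    rintro g hg _ ⟨u, hu, rfl⟩
    exact ⟨⟨g, hg⟩ * u * ⟨g, hg⟩⁻¹, hM.conj_mem u hu _, rfl⟩
  have hTK : (T : Subgroup G) ≤ K := d.T_le.trans hK
  have hn' : (M'.subgroupOf (T : Subgroup G)).Normal := by
    refine ⟨fun n hn g => ?_⟩
    rw [mem_subgroupOf] at hn ⊢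
    exact hconj _ (hTK g.2) _ hn
  have hnil : Group.IsNilpotent (T : Subgroup G) := T.isPGroup'.isNilpotent
  have hne' : M'.subgroupOf (T : Subgroup G) ≠ ⊥ := by
    intro hb
    apply h
    rw [eq_bot_iff]
    intro x hx
    obtain ⟨hx1, hx2⟩ := mem_inf.1 hx
    have h1 : (⟨(x : G), mem_subgroupOf.1 hx1⟩ : (T : Subgroup G)) ∈ M'.subgroupOf (T : Subgroup G) :=
      mem_subgroupOf.2 ⟨x, hx2, rfl⟩
    rw [hb, mem_bot] at h1
    have h2 : (x : G) = 1 := congrArg Subtype.val h1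
    rw [mem_bot]
    exact Subtype.ext h2
  obtain ⟨⟨y, hyR, hyc⟩, hy1⟩ := (Subgroup.ne_bot_iff_exists_ne_one).1
    (Lib.NormalAbelian.normal_inf_center_ne_bot _ hne')
  have hy1' : (y : G) ≠ 1 := fun h => hy1 (Subtype.ext (Subtype.ext h))
  have hyV : (y : G) ∈ V := d.cen _ fun v hv => by
    have h4 := mem_center_iff.1 hyc ⟨v, d.le hv⟩
    exact (congrArg Subtype.val h4).symm
  have hU := d.irr (V ⊓ M') inf_le_left (fun g hg u hu => by
    obtain ⟨hu1, hu2⟩ := mem_inf.1 hu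
    exact mem_inf.2 ⟨(mem_normalizer_iff.1 hg u).1 hu1, hconj g (hK hg) u hu2⟩)
  have hyU : (y : G) ∈ V ⊓ M' := mem_inf.2 ⟨hyV, mem_subgroupOf.1 hyR⟩
  rcases hU with hU | hU
  · rw [hU, mem_bot] at hyU
    exact absurd hyU hy1'
  · intro v hv
    have h1 : (v : G) ∈ M' := (hU.ge.trans inf_le_right) (mem_subgroupOf.1 hv)
    obtain ⟨w, hw, e⟩ := h1
    rwa [← Subtype.ext e]

omit [Finite G] d in
theorem card_subgroupOf_of_le {A B : Subgroup G} (h : A ≤ B) : Nat.card (A.subgroupOf B) = Nat.card A :=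
  Nat.card_congr (subgroupOfEquivOfLe h).toEquiv

/-- the Frattini argument -/
theorem Dat.card_of_le {K : Subgroup G} (hK : normalizer (V : Set G) ≤ K) (N : Subgroup K) [hN : N.Normal]
    (h : V.subgroupOf K ≤ N) : ∃ j ∈ J, Nat.card N * Nat.card (normalizer (V : Set G)) = Nat.card K * j := by
  have : Fact (Nat.Prime 2) := ⟨Nat.prime_two⟩
  have hTK : (T : Subgroup G) ≤ K := d.T_le.trans hK
  have hVK : V ≤ K := (d.le).trans hTK
  set X : Subgroup K := (normalizer (V : Set G)).subgroupOf K with hX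
  have htop := Lib.SylowNormalInf.normalizer_inf_sup_eq_top (T.subtype hTK) N
  have hsub : normalizer ((((T.subtype hTK : Subgroup K) ⊓ N : Subgroup K)) : Set K) ≤ X := by
    intro g hg
    rw [hX, mem_subgroupOf]
    apply d.weak
    intro v hv
    have h1 : (⟨v, hVK hv⟩ : K) ∈ ((T.subtype hTK : Subgroup K) ⊓ N : Subgroup K) :=
      mem_inf.2 ⟨d.le hv, h (mem_subgroupOf.2 hv)⟩
    have h3 := (mem_normalizer_iff.1 hg _).1 h1
    exact (mem_inf.1 h3).1
  have hNX : N ⊔ X = ⊤ := by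
    rw [eq_top_iff, ← htop]
    exact sup_le (hsub.trans le_sup_right) le_sup_left
  have hcard := H940.Eng.card_sup_mul_card_inf N X
  rw [hNX, card_top, card_subgroupOf_of_le hK] at hcard
  set M : Subgroup G := (N ⊓ X).map K.subtype with hM
  have hMc : Nat.card M = Nat.card ↥(N ⊓ X) := card_map_of_injective K.subtype_injective
  have hMX : M ≤ normalizer (V : Set G) := by
    rintro _ ⟨x, hx, rfl⟩
    exact mem_subgroupOf.1 (mem_inf.1 hx).2
  have hVM : V ≤ M := by
    intro v hv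
    exact ⟨⟨v, hVK hv⟩, mem_inf.2 ⟨h (mem_subgroupOf.2 hv), mem_subgroupOf.2 (le_normalizer hv)⟩, rfl⟩
  refine ⟨Nat.card M, d.nrm M hVM hMX ?_, by rw [hMc]; exact hcard.symm⟩
  rintro g hg _ ⟨u, hu, rfl⟩
  obtain ⟨hu1, hu2⟩ := mem_inf.1 hu
  refine ⟨⟨g, hK hg⟩ * u * ⟨g, hK hg⟩⁻¹, mem_inf.2 ⟨hN.conj_mem u hu1 _, ?_⟩, rfl⟩
  exact mul_mem (mul_mem (mem_subgroupOf.2 hg) hu2) (inv_mem (mem_subgroupOf.2 hg))

/-- a nontrivial normal subgroup of odd order -/
theorem Dat.inf_cent {K : Subgroup G} (hK : normalizer (V : Set G) ≤ K) (N : Subgroup K) [hN : N.Normal] (hne : N ≠ ⊥)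
    (h2 : ¬ 2 ∣ Nat.card N) : (T : Subgroup G).subgroupOf K ⊓ centralizer (N : Set K) = ⊥ := by
  have : Fact (Nat.Prime 2) := ⟨Nat.prime_two⟩
  by_contra hcon
  have h1 := d.le_of_inf hK (centralizer (N : Set K)) hcon
  have hTK : (T : Subgroup G) ≤ K := d.T_le.trans hK
  have hVK : V ≤ K := (d.le).trans hTK
  have h3 : N.map K.subtype ≤ (T : Subgroup G) := by
    rintro _ ⟨x, hx, rfl⟩
    apply d.le
    apply d.cen
    intro v hv
    have h4 := mem_centralizer_iff.1 (h1 (show (⟨v, hVK hv⟩ : K) ∈ V.subgroupOf K from mem_subgroupOf.2 hv)) x hx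
    exact congrArg Subtype.val h4
  obtain ⟨n, hn⟩ := IsPGroup.iff_card.1 T.isPGroup'
  have h5 : Nat.card N ∣ 2 ^ n := by
    rw [← hn, ← card_map_of_injective K.subtype_injective]
    exact card_dvd_of_le h3
  obtain ⟨k, -, hk⟩ := (Nat.dvd_prime_pow Nat.prime_two).1 h5
  rcases Nat.eq_zero_or_pos k with rfl | hk0
  · rw [pow_zero] at hk
    exact hne (Subgroup.card_eq_one.1 hk)
  · apply h2
    rw [hk]
    exact dvd_pow_self 2 hk0.ne'

end

/-! ### Numbers of the Held group -/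

open H940.Eng H940.Eng.D Cfsg.Agent.OrdDiv

/-- the orders of the normal subgroups of `2^6:3.S6` containing `2^6` (and some more) -/
def J : List ℕ := [64, 192, 23040, 46080, 69120, 138240]

theorem power_chk : (divsT [(5, 1), (7, 3), (17, 1)]).all (fun m => J.all fun j => o_he.all fun s => (List.range 7).all fun k =>
    s ^ k != m * j || m * j == 1 || m * j == n_he) = true := by decide +kernel

/-- the power of the order of a simple group -/
theorem power_eq {m j s k : ℕ} (hm : m ∣ 29155) (hj : j ∈ J) (hs : s ∈ o_he) (h : s ^ k = m * j) (h1 : m * j ≠ 1) :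
    m * j = n_he := by
  have h0 := power_chk
  rw [List.all_eq_true] at h0
  have hp : ∀ x ∈ ([(5, 1), (7, 3), (17, 1)] : List (ℕ × ℕ)), (x.1).Prime := by
    intro x hx
    simp only [List.mem_cons, List.not_mem_nil, or_false] at hx
    rcases hx with rfl | rfl | rfl <;> norm_num
  have h2 := h0 m (mem_divsT hp (by rw [show prodl [(5, 1), (7, 3), (17, 1)] = 29155 by decide +kernel]; exact hm))
  rw [List.all_eq_true] at h2
  have h3 := h2 j hj
  rw [List.all_eq_true] at h3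
  have h4 := h3 s hs
  rw [List.all_eq_true] at h4
  have hs2 : 60 ≤ s := (by decide +kernel : ∀ s ∈ o_he, 60 ≤ s) s hs
  have hj2 : j ≤ 138240 := (by decide +kernel : ∀ j ∈ J, j ≤ 138240) j hj
  have hm2 : m ≤ 29155 := Nat.le_of_dvd (by norm_num) hm
  have hk : k < 7 := by
    by_contra hk
    push Not at hk
    have h5 : 60 ^ 7 ≤ s ^ k := (Nat.pow_le_pow_right (by norm_num) hk).trans (Nat.pow_le_pow_left hs2 k)
    have h6 : m * j ≤ 29155 * 138240 := Nat.mul_le_mul hm2 hj2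
    rw [h] at h5
    exact absurd (h5.trans h6) (by norm_num)
  have h5 := h4 k (List.mem_range.2 hk)
  rw [Bool.or_eq_true, Bool.or_eq_true, bne_iff_ne, beq_iff_eq, beq_iff_eq] at h5
  rcases h5 with (h5 | h5) | h5
  · exact absurd h h5
  · exact absurd h5 h1
  · exact h5

theorem not_dvd_GL {p k : ℕ} (hp : p.Prime) (hk0 : k ≠ 0) (hp2 : p ≠ 2) (h : p ^ k ∣ n_he) :
    ¬ 1024 ∣ Nat.card (Matrix.GeneralLinearGroup (Fin k) (ZMod p)) := by
  have := Fact.mk hp
  obtain ⟨e, he, hke⟩ := exists_pair v_he hp (Nat.one_le_iff_ne_zero.2 hk0) h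
  rw [Matrix.card_GL_field, ZMod.card]
  simp only [l_he, List.mem_cons, List.not_mem_nil, or_false, Prod.mk.injEq] at he
  rcases he with ⟨rfl, rfl⟩ | ⟨rfl, rfl⟩ | ⟨rfl, rfl⟩ | ⟨rfl, rfl⟩ | ⟨rfl, rfl⟩
  · exact absurd rfl hp2
  all_goals
    interval_cases k <;> simp [Fin.prod_univ_succ] at *

/-- **maximality** -/
theorem coatom_of (B : Base) {G : Type} [Group G] [Finite G] (hG : Nat.card G = n_he) {V : Subgroup G} {T : Sylow 2 G}
    (d : Dat V T J) (hc : Nat.card (normalizer (V : Set G)) = 138240)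
    (hov : ∀ H : Subgroup G, (T : Subgroup G) ≤ H → Cfsg.pCore 2 H ≠ ⊥ → Nat.card H ≤ 138240) :
    IsCoatom (normalizer (V : Set G)) := by
  have h2 : Fact (Nat.Prime 2) := ⟨Nat.prime_two⟩
  refine ⟨fun h => ?_, fun K hK => ?_⟩
  · rw [h, card_top, hG] at hc
    exact absurd hc (by decide +kernel)
  by_contra hKt
  have hXK := hK.le
  have hTK : (T : Subgroup G) ≤ K := d.T_le.trans hXK
  have hKn : Nat.card K ∣ n_he := hG ▸ card_subgroup_dvd_card K
  obtain ⟨m, hm⟩ := card_dvd_of_le hXK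
  rw [hc] at hm
  have hm1 : m ∣ 29155 := by
    rw [hm, show n_he = 138240 * 29155 by decide +kernel] at hKn
    exact Nat.dvd_of_mul_dvd_mul_left (by norm_num) hKn
  have hTc : Nat.card (T : Subgroup G) = 1024 := by
    rw [T.card_eq_multiplicity, hG]
    decide +kernel
  have hKnt : Nontrivial K := by
    rw [← Finite.one_lt_card_iff_nontrivial]
    exact lt_of_lt_of_le (by norm_num) (hc ▸ Nat.le_of_dvd Nat.card_pos (card_dvd_of_le hXK))
  have hK' : ¬ Nat.card K ≤ 138240 := by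
    intro h
    exact hK.ne (eq_of_le_of_card_ge hXK (by rw [hc]; exact h))
  obtain ⟨N, hNn, hN, hmin⟩ := exists_min K
  have hNK : Nat.card N ∣ n_he := (card_subgroup_dvd_card N).trans hKn
  have hords : ∀ S : Subgroup K, IsSimpleGroup S → (¬ ∀ a b : S, a * b = b * a) → Nat.card S ∈ o_he := fun S hS hna =>
    ords_he B S hS hna ((card_subgroup_dvd_card S).trans hKn)
  by_cases h2N : 2 ∣ Nat.card N
  · have hinf : (T : Subgroup G).subgroupOf K ⊓ N ≠ ⊥ := by
      intro h
      have h3 := card_sup_mul_card_inf N ((T : Subgroup G).subgroupOf K)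
      rw [inf_comm, h, card_bot, mul_one, card_subgroupOf_of_le hTK, hTc] at h3
      have h4 : 2 * 1024 ∣ n_he := by
        refine dvd_trans ?_ ((card_subgroup_dvd_card (N ⊔ (T : Subgroup G).subgroupOf K)).trans hKn)
        rw [h3]
        exact Nat.mul_dvd_mul_right h2N _
      exact absurd h4 (by decide +kernel)
    have hle := d.le_of_inf hXK N hinf
    obtain ⟨j, hj, hcard⟩ := d.card_of_le hXK N hle
    have hNc : Nat.card N = m * j := by
      rw [hc, hm] at hcard
      apply Nat.eq_of_mul_eq_mul_right (show 0 < 138240 by norm_num)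
      rw [hcard]; ring
    rcases min_cases N hN hmin with ⟨p, k, hp, hpk, -, -⟩ | ⟨k, S, hS, hna, hpk⟩
    · have hp2 : p = 2 := by
        rw [hpk] at h2N
        exact ((Nat.prime_dvd_prime_iff_eq Nat.prime_two hp).1 (Nat.prime_two.dvd_of_dvd_pow h2N)).symm
      rw [hp2] at hpk
      have h3 : N ≤ Cfsg.pCore 2 K := Lib.Cores.le_pCore hNn (IsPGroup.of_card hpk)
      apply hK'
      apply hov K hTK
      intro h4
      rw [h4] at h3
      exact hN (le_bot_iff.1 h3)
    · have h3 := power_eq hm1 hj (hords S hS hna) (hpk.symm.trans hNc) (by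
        rw [← hNc]
        intro h
        exact hN (Subgroup.card_eq_one.1 h))
      apply hKt
      rw [← card_eq_iff_eq_top, hG]
      apply le_antisymm (Nat.le_of_dvd (by decide +kernel) hKn)
      rw [← h3, ← hNc]
      exact Nat.le_of_dvd Nat.card_pos (card_subgroup_dvd_card N)
  · have hk0 : ∀ {s k : ℕ}, Nat.card N = s ^ k → k ≠ 0 := by
      rintro s k h rfl
      rw [pow_zero] at h
      exact hN (Subgroup.card_eq_one.1 h)
    rcases min_cases N hN hmin with ⟨p, k, hp, hpk, hcomm, hpow⟩ | ⟨k, S, hS, hna, hpk⟩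
    · have hp2 : p ≠ 2 := by
        rintro rfl
        exact h2N (hpk ▸ dvd_pow_self 2 (hk0 hpk))
      apply not_dvd_GL hp (hk0 hpk) hp2 (hpk ▸ hNK)
      rw [← hTc, ← card_subgroupOf_of_le hTK]
      exact dvd_GL N hp hpk hcomm hpow _ (d.inf_cent hXK N hN h2N)
    · have h3 := (by decide +kernel : ∀ s ∈ o_he, 2 ∣ s) _ (hords S hS hna)
      exact h2N (hpk ▸ h3.trans (dvd_pow_self _ (hk0 hpk)))

end Cfsg.Agent.H70.HeMax
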