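import Cfsg.Prelude.Def_ChevAutomorphisms
import Cfsg.Prelude.Def_LieTypes
import Cfsg.Prelude.Def_ChevB2

/-!
# The coefficients of the roots on the fundamental roots

`RootCoeff D m`: `m r i` is the coefficient of the root with index `r` on the fundamental root `p_i`, in the form needed
for characters of the root lattice: `m` is additive along the chains of the datum. `exists_rootCoeff`: such an `m` exists
for the seven tabulated data (packed tables, checked by the kernel).
-/

set_option autoImplicit false
set_option maxRecDepth 100000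

namespace Cfsg.Agent.H70.RootCoeffTab

open Cfsg.Lie

/-- `m r i` is the coefficient of the root `r` on the fundamental root `p_i`. -/
structure RootCoeff (D : ChevalleyDatum) (m : ℕ → ℕ → ℤ) : Prop where
  simple : ∀ j < D.rank, ∀ i < D.rank, m (D.simple j) i = if j = i then 1 else 0
  neg : ∀ r < D.nroots, ∀ i < D.rank, m (D.neg r) i = - m r i
  chain : ∀ r, ∀ e ∈ (D.chain.getD r #[]).toList, ∀ (k : ℕ) (q : ℕ × ℤ), e.2.toList[k]? = some q →
    ∀ i < D.rank, m q.1 i = m e.1 i + ((k : ℤ) + 1) * m r i

/-- the `i`-th digit of the `r`-th entry of the packed table -/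
def dig (M l r i : ℕ) : ℕ := (M >>> (5 * (l * r + i))) % 32

/-- one chain -/
def chkEntry (M l r s : ℕ) : ℕ → List (ℕ × ℤ) → Bool
  | _, [] => true
  | k, q :: L => ((List.range l).all fun i => Nat.beq (dig M l q.1 i + k * 8) (dig M l s i + k * dig M l r i)) &&
      chkEntry M l r s (k + 1) L

/-- all chains -/
def chkRows (M l : ℕ) : ℕ → List (Array (ℕ × Array (ℕ × ℤ))) → Bool
  | _, [] => true
  | r, row :: L => (row.toList.all fun e => chkEntry M l r e.1 1 e.2.toList) && chkRows M l (r + 1) L

/-- the fundamental roots -/
def chkSimple (M l : ℕ) (D : ChevalleyDatum) : Bool :=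
  (List.range l).all fun j => (List.range l).all fun i =>
    Nat.beq (dig M l (D.simple j) i) (if Nat.beq j i then 9 else 8)

/-- the negatives -/
def chkNeg (M l : ℕ) (D : ChevalleyDatum) : Bool :=
  (List.range D.nroots).all fun r => (List.range l).all fun i =>
    Nat.beq (dig M l (D.neg r) i + dig M l r i) 16

theorem chkEntry_spec {M l r s : ℕ} : ∀ {k₀ : ℕ} {L : List (ℕ × ℤ)}, chkEntry M l r s k₀ L = true →
    ∀ (k : ℕ) (q : ℕ × ℤ), L[k]? = some q → ∀ i < l, dig M l q.1 i + (k₀ + k) * 8 = dig M l s i + (k₀ + k) * dig M l r i
  | k₀, [], _, k, q, h, i, hi => by simp at h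
  | k₀, q₀ :: L, h, k, q, hq, i, hi => by
    rw [chkEntry, Bool.and_eq_true] at h
    cases k with
    | zero =>
      rw [List.getElem?_cons_zero, Option.some.injEq] at hq
      subst hq
      have := List.all_eq_true.1 h.1 i (List.mem_range.2 hi)
      exact Nat.eq_of_beq_eq_true this
    | succ k =>
      rw [List.getElem?_cons_succ] at hq
      have := chkEntry_spec h.2 k q hq i hi
      rw [show k₀ + (k + 1) = k₀ + 1 + k by omega]
      exact this

theorem chkRows_spec {M l : ℕ} : ∀ {r₀ : ℕ} {L : List (Array (ℕ × Array (ℕ × ℤ)))}, chkRows M l r₀ L = true →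
    ∀ (r : ℕ) (row : Array (ℕ × Array (ℕ × ℤ))), L[r]? = some row → ∀ e ∈ row.toList,
      chkEntry M l (r₀ + r) e.1 1 e.2.toList = true
  | r₀, [], _, r, row, h, e, he => by simp at h
  | r₀, row₀ :: L, h, r, row, hr, e, he => by
    rw [chkRows, Bool.and_eq_true] at h
    cases r with
    | zero =>
      rw [List.getElem?_cons_zero, Option.some.injEq] at hr
      subst hr
      exact List.all_eq_true.1 h.1 e he
    | succ r =>
      rw [List.getElem?_cons_succ] at hr
      have := chkRows_spec h.2 r row hr e he
      rw [show r₀ + (r + 1) = r₀ + 1 + r by omega]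
      exact this

theorem rootCoeff_of_chk {D : ChevalleyDatum} {M : ℕ} (h1 : chkRows M D.rank 0 D.chain.toList = true)
    (h2 : chkSimple M D.rank D = true) (h3 : chkNeg M D.rank D = true) :
    RootCoeff D (fun r i => (dig M D.rank r i : ℤ) - 8) where
  simple := by
    intro j hj i hi
    have h := List.all_eq_true.1 (List.all_eq_true.1 h2 j (List.mem_range.2 hj)) i (List.mem_range.2 hi)
    have h := Nat.eq_of_beq_eq_true h
    show (dig M D.rank (D.simple j) i : ℤ) - 8 = _
    rw [h]
    by_cases hij : j = i
    · subst hij
      rw [Nat.beq_refl]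
      simp
    · have : Nat.beq j i = false := by
        cases hb : Nat.beq j i with
        | false => rfl
        | true => exact absurd (Nat.eq_of_beq_eq_true hb) hij
      rw [this]
      simp [hij]
  neg := by
    intro r hr i hi
    have h := List.all_eq_true.1 (List.all_eq_true.1 h3 r (List.mem_range.2 hr)) i (List.mem_range.2 hi)
    have h := Nat.eq_of_beq_eq_true h
    show (dig M D.rank (D.neg r) i : ℤ) - 8 = -((dig M D.rank r i : ℤ) - 8)
    omega
  chain := by
    intro r e he k q hq i hi
    have hrow : D.chain.toList[r]? = some (D.chain.getD r #[]) := by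
      rw [Array.getElem?_toList]
      rw [Array.getD_eq_getD_getElem?] at he ⊢
      cases h : D.chain[r]? with
      | none =>
        rw [h] at he
        simp at he
      | some row => simp
    have h4 := chkRows_spec h1 r _ hrow e he
    have h5 := chkEntry_spec h4 k q hq i hi
    rw [zero_add] at h5
    show (dig M D.rank q.1 i : ℤ) - 8 = ((dig M D.rank e.1 i : ℤ) - 8) + ((k : ℤ) + 1) * ((dig M D.rank r i : ℤ) - 8)
    have h6 : (dig M D.rank q.1 i : ℤ) + (1 + k) * 8 = dig M D.rank e.1 i + (1 + k) * dig M D.rank r i := by
      exact_mod_cast h5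
    linear_combination h6

/-- packed table of the root coefficients, type G2 -/
def MG2 : ℕ := 0x52d2b4a929425283a10739ce6394c5

theorem rootCoeffG2 : ∃ m, RootCoeff chevG2 m :=
  ⟨_, rootCoeff_of_chk (M := MG2) (by decide +kernel) (by decide +kernel) (by decide +kernel)⟩

/-- packed table of the root coefficients, type B2 -/
def MB2 : ℕ := 0x4a929425283a10739ce6

theorem rootCoeffB2 : ∃ m, RootCoeff chevB2 m :=
  ⟨_, rootCoeff_of_chk (M := MB2) (by decide +kernel) (by decide +kernel) (by decide +kernel)⟩

/-- packed table of the root coefficients, type D4 -/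
def MD4 : ℕ := 0x4a5494a529425294a12942129421094a528425284a12842128425084a1083a10841d08420e83a0e841ce839ce842107420e73a0e741ce739ce739cc7

theorem rootCoeffD4 : ∃ m, RootCoeff chevD4 m :=
  ⟨_, rootCoeff_of_chk (M := MD4) (by decide +kernel) (by decide +kernel) (by decide +kernel)⟩

/-- packed table of the root coefficients, type F4 -/
def MF4 : ℕ := 0x52d8a4ad8a4a98a4a96a4a94a4a54a4254a4a9694a9494a549425494a5294252942129421094a9484a548425484a52842528421284a508425084a1083a10841d0839d08420e841ce839ce841cc839cc8398c842107420e741ce739ce741cc739cc7398c7398a741cc639cc6398c6398a6398863948631486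

theorem rootCoeffF4 : ∃ m, RootCoeff chevF4 m :=
  ⟨_, rootCoeff_of_chk (M := MF4) (by decide +kernel) (by decide +kernel) (by decide +kernel)⟩

/-- packed table of the root coefficients, type E6 -/
def ME6 : ℕ := 0x4a96a5252a5a9294a94a4a529529294254a4a52a525294a5494a509525294a5294a5094a529421294a5294a50942529425084a5094210942508421094a9494a12952528425494a1294a528425294a1084a5284a5284a1094a128421284a108421284a529421094a5084212942108425084a528421094a1084212842129421084250842128421083a108421074210839d08421083a10841ce8420e73a108421074210839d0841ce7420e739d08421083a1083a0e841ce83a0e73a0e8420e73a10739ce839ce73a10731ce839cc73a0e631ce84210841d0841d07420e741d0739d0739ce741d0839ce741ce739ce739ce741cc739ce731ce7398c739d07318e739cc639ce6318e7398a639ce6298c7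

theorem rootCoeffE6 : ∃ m, RootCoeff chevE6 m :=
  ⟨_, rootCoeff_of_chk (M := ME6) (by decide +kernel) (by decide +kernel) (by decide +kernel)⟩

/-- packed table of the root coefficients, type E7 -/
def ME7 : ℕ := 0x12a5b16a5254b62d494a96c5292952d6a5252a52d4a4a52a5a9494254b5292952d6a4a52a52d494a52a5a9294254b525295294a4a529529494a12a529294a52a525284a54a4a5084a9494a54a525294a54a4a5284a9494a5294a9294a129525294212a4a5294a5294a5094a5294a1094a529421094a5294a529425094a5284a1094a509421094a1284210942508421084a54a525284a54a4a5084a9494a1294a92942129525284212a4a5094a5294a1094a529421094a528421094a5094a5284a1094a509421094a1284210942508421084a1294a528421294a508421294a108421294210842128425294a10842529421084252842108425084252942108425284210842508421294210842128421084a1084210742108421074210841ce842108420e84210839d08420e73a108421083a108420e74210839ce8420e739d084210841d08421073a10841ce74210739ce841ce739d084210841d08420e83a10839d07420e73a0e839ce741d08420e73a10839ce7420e739ce839ce739d0841cc73a107398e741ce731ce841cc639d07398c73a0e6318e74210842107421083a0e8420e741d0839ce83a0e739d0739ce73a0e8420e739d0839ce73a0e739ce739ce739ce841cc739d07398e739ce731ce741cc639ce7398c739ce6318e73a107318e741ce631ce739cc639d07318c739ce6318e7398c631ce8398a639ce7314c739cc6298e7398a531ce8398a631ce7314c639cc6298c7398a5318e73148631ce6290a639cc5214c6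

theorem rootCoeffE7 : ∃ m, RootCoeff chevE7 m :=
  ⟨_, rootCoeff_of_chk (M := ME7) (by decide +kernel) (by decide +kernel) (by decide +kernel)⟩

/-- packed table of the root coefficients, type E8 -/
def ME8 : ℕ := 0x52d8d7316a4ad8d7316a4a98d7316a4a96d7316a4a96c7316a4a96c6b16a4a96c6ad6a4a96c6b14a4a96c6ad4a4a96c62d4a4a96b62d4a4a94b62d4a4a54b62d4a4254b62d4a4a96c6ad694a96c6ad494a96c62d494a96b62d494a94b62d494a54b62d494254b62d494a96c629494a96b629494a94b629494a54b629494254b629494a96b5a9494a94b5a9494a54b5a9494254b5a9494a94a5a9494a54a5a9494254a5a9494a52a5a9494252a5a9494212a5a9494a96b5a9294a94b5a9294a54b5a9294254b5a9294a94a5a9294a54a5a9294254a5a9294a52a5a9294252a5a9294212a5a9294a94a529294a54a529294254a529294a52a529294252a529294212a529294a529529294252952929421295292942109529294a94a525294a54a525294254a525294a52a525294252a525294212a525294a529525294252952529421295252942109525294a5294a529425294a529421294a529421094a529421084a5294a5294a509425294a509421294a509421094a509421084a509421084250942108421094a94a525284a54a525284254a525284a52a525284252a525284212a525284a5295252842529525284212952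52842109525284a5294a528425294a528421294a528421094a528421084a5284a5294a128425294a128421294a128421094a128421084a12842108421284a5294a508425294a508421294a508421094a508421084a50842108425084a5294a108425294a108421294a108421094a108421084a1084a529421084252942108421294210842109421084a52842108425284210842128421084a5084210842508421084a108421083a1084210841d084210839d0842108420e84210841ce84210839ce8421084210742108420e74210841ce74210839ce742108421083a108421073a108420e73a10841ce73a10839ce73a1084210841d084210839d084210739d08420e739d0841ce739d0839ce739d0842108420e8421083a0e8421073a0e8420e73a0e841ce73a0e839ce73a0e84210839ce84210739ce8420e739ce841ce739ce839ce739ce84210731ce8420e731ce841ce731ce839ce731ce8420e631ce841ce631ce839ce631ce841cc631ce839cc631ce8398c631ce842108421074210841d074210839d074210739d07420e739d0741ce739d0739ce739d074210839ce74210739ce7420e739ce741ce739ce739ce739ce74210731ce7420e731ce741ce731ce739ce731ce7420e631ce741ce631ce739ce631ce741cc631ce739cc631ce7398c631ce742107318e7420e7318e741ce7318e739ce7318e7420e6318e741ce6318e739ce6318e741cc6318e739cc6318e7398c6318e7420e6298e741ce6298e739ce6298e741cc6298e739cc6298e7398c6298e741cc5298e739cc5298e7398c5298e7398a5298e7420e6298c741ce6298c739ce6298c741cc6298c739cc6298c7398c6298c741cc5298c739cc5298c7398c5298c7398a5298c741cc5218c739cc5218c7398c5218c7398a5218c7398a4218c741cc5214c739cc5214c7398c5214c7398a5214c7398a4214c7398a4194c7398a4194a741cc5214c639cc5214c6398c5214c6398a5214c6398a4214c6398a4194c6398a4190c6398a4194a6398a4190a6398a4110a6398a3110a639883110a639483110a631483110a6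

theorem rootCoeffE8 : ∃ m, RootCoeff chevE8 m :=
  ⟨_, rootCoeff_of_chk (M := ME8) (by decide +kernel) (by decide +kernel) (by decide +kernel)⟩

theorem exists_rootCoeff {D : ChevalleyDatum} (hD : D ∈ [chevG2, chevB2, chevD4, chevF4, chevE6, chevE7, chevE8]) :
    ∃ m, RootCoeff D m := by
  simp only [List.mem_cons, List.not_mem_nil, or_false] at hD
  rcases hD with h | h | h | h | h | h | h <;> rw [h]
  · exact rootCoeffG2
  · exact rootCoeffB2
  · exact rootCoeffD4
  · exact rootCoeffF4
  · exact rootCoeffE6
  · exact rootCoeffE7
  · exact rootCoeffE8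

end Cfsg.Agent.H70.RootCoeffTab
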