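import Cfsg.Agent.H70.RowHe
import Cfsg.Agent.H933.TitsInv

/-!
# Three pairwise apart invariant subgroups of the Held group (helper70, for S5907)
-/

set_option autoImplicit false

namespace Cfsg.Agent.H70.RowHeInv

open Subgroup Cfsg.Agent.H933.TitsInv Cfsg.Agent.H339.MaxCl Cfsg.Agent.H70.HeCoat

theorem norm_ne_bot {A : Subgroup G} {k : ℕ} (h : Nat.card A = k) (hk : k ≠ 1) : normalizer (A : Set G) ≠ ⊥ := by
  intro hb
  have h1 : A = ⊥ := le_bot_iff.1 (hb ▸ le_normalizer)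
  rw [h1, card_bot] at h
  exact hk h.symm

theorem three (B : H940.Eng.Base) : SepInv 3 Cfsg.Spor.He := by
  have := finG
  have p5 : Fact (Nat.Prime 5) := ⟨by norm_num⟩
  have p7 : Fact (Nat.Prime 7) := ⟨by norm_num⟩
  have p17 : Fact (Nat.Prime 17) := ⟨by norm_num⟩
  obtain ⟨P5, P7, P17, c5, c7, c17, -, -, -, n5, n7, n17, a, b, c⟩ := RowHe.triple B
  exact sepInv_three ⟨n17, norm_ne_bot c17 (by norm_num), autInv_normalizer (autInv_sylow P17)⟩
    ⟨n5, norm_ne_bot c5 (by norm_num), autInv_normalizer (autInv_sylow P5)⟩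
    ⟨n7, norm_ne_bot c7 (by norm_num), autInv_normalizer (autInv_sylow P7)⟩
    (apart_iff.1 a) (apart_iff.1 b) (apart_iff.1 c)

end Cfsg.Agent.H70.RowHeInv
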